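import Cfsg.Agent.Lib.Characters.Basic
import Cfsg.Agent.Lib.Characters.Diag
import Mathlib.LinearAlgebra.PID

/-!
Averaging idempotents of a representation over cyclic subgroups, and their traces.
-/

set_option autoImplicit false
set_option linter.unusedSectionVars false

namespace Cfsg.Agent.Lib.RecogThree.M11.Rep

open Finset

universe u v

variable {V : Type v} [AddCommGroup V] [Module ℂ V] [FiniteDimensional ℂ V]

/-- The trace of an idempotent is the dimension of its range. -/
theorem trace_idem (e : Module.End ℂ V) (h : e * e = e) :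
    LinearMap.trace ℂ V e = (Module.finrank ℂ (LinearMap.range e) : ℂ) :=
  LinearMap.IsProj.trace
    ⟨fun x => LinearMap.mem_range_self e x, fun _ hx => by
      obtain ⟨w, rfl⟩ := hx
      rw [← Module.End.mul_apply, h]⟩

theorem eq_zero_of_trace (e : Module.End ℂ V) (h : e * e = e)
    (h0 : LinearMap.trace ℂ V e = 0) : e = 0 := by
  rw [trace_idem e h, Nat.cast_eq_zero] at h0
  exact LinearMap.range_eq_bot.mp (Submodule.finrank_eq_zero.mp h0)

variable {G : Type u} [Group G] (ρ : Representation ℂ G V)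

/-- The average of `ρ (g ^ i)` for `i < n`. -/
noncomputable def avg (g : G) (n : ℕ) : Module.End ℂ V :=
  (n : ℂ)⁻¹ • ∑ i ∈ range n, ρ (g ^ i)

theorem rho_mul_avg {g : G} {n : ℕ} (hg : g ^ n = 1) : ρ g * avg ρ g n = avg ρ g n := by
  rw [avg, mul_smul_comm, mul_sum]
  congr 1
  rw [sum_congr rfl fun i _ => show ρ g * ρ (g ^ i) = ρ (g ^ (i + 1)) by
    rw [← map_mul, pow_succ']]
  have h1 := Finset.sum_range_succ' (fun i => ρ (g ^ i)) n
  have h2 := Finset.sum_range_succ (fun i => ρ (g ^ i)) n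
  rw [h2, hg, pow_zero] at h1
  exact (add_right_cancel h1).symm

theorem rho_pow_mul_avg {g : G} {n : ℕ} (hg : g ^ n = 1) (i : ℕ) :
    ρ (g ^ i) * avg ρ g n = avg ρ g n := by
  induction i with
  | zero => rw [pow_zero, map_one, one_mul]
  | succ i ih => rw [pow_succ, map_mul, mul_assoc, rho_mul_avg ρ hg, ih]

theorem avg_idem {g : G} {n : ℕ} (hn : n ≠ 0) (hg : g ^ n = 1) :
    avg ρ g n * avg ρ g n = avg ρ g n := by
  conv_lhs => arg 1; rw [avg]
  rw [smul_mul_assoc, sum_mul, sum_congr rfl fun i _ => rho_pow_mul_avg ρ hg i, sum_const,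
    card_range, ← Nat.cast_smul_eq_nsmul ℂ, smul_smul, inv_mul_cancel₀ (Nat.cast_ne_zero.mpr hn),
    one_smul]

theorem trace_avg (g : G) (n : ℕ) :
    LinearMap.trace ℂ V (avg ρ g n) = (n : ℂ)⁻¹ * ∑ i ∈ range n, ρ.character (g ^ i) := by
  rw [avg, map_smul, map_sum, smul_eq_mul]
  rfl

theorem trace_mul_avg (h g : G) (n : ℕ) :
    LinearMap.trace ℂ V (ρ h * avg ρ g n) =
      (n : ℂ)⁻¹ * ∑ i ∈ range n, ρ.character (h * g ^ i) := by
  rw [avg, mul_smul_comm, mul_sum, map_smul, map_sum, smul_eq_mul]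
  congr 1
  exact sum_congr rfl fun i _ => by rw [← map_mul]; rfl

/-- An element mapping `g` to a power generating the same group commutes with the average. -/
theorem comm_avg {g h : G} {n r : ℕ} (hg : g ^ n = 1) (hr : r.Coprime n)
    (hh : h * g * h⁻¹ = g ^ r) : ρ h * avg ρ g n = avg ρ g n * ρ h := by
  rw [avg, mul_smul_comm, smul_mul_assoc, mul_sum, sum_mul]
  congr 1
  rcases Nat.eq_zero_or_pos n with rfl | hn
  · simp
  refine sum_nbij (fun i => r * i % n) (fun i _ => mem_range.mpr (Nat.mod_lt _ hn)) ?_ ?_ ?_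
  · intro i hi j hj hij
    simp only [coe_range, Set.mem_Iio] at hi hj
    have : r * i ≡ r * j [MOD n] := hij
    exact Nat.ModEq.eq_of_lt_of_lt (Nat.ModEq.cancel_left_of_coprime hr.symm this) hi hj
  · intro j hj
    have hinj : Set.InjOn (fun i => r * i % n) (range n : Finset ℕ) := by
      intro i hi k hk hik
      simp only [coe_range, Set.mem_Iio] at hi hk
      exact Nat.ModEq.eq_of_lt_of_lt (Nat.ModEq.cancel_left_of_coprime hr.symm hik) hi hk
    exact Finset.surjOn_of_injOn_of_card_le _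
      (fun i _ => mem_range.mpr (Nat.mod_lt _ hn)) hinj le_rfl hj
  · intro i _
    have e : g ^ (r * i % n) = h * g ^ i * h⁻¹ := by
      rw [← conj_pow, hh, ← pow_mul]
      exact (pow_eq_pow_mod _ hg).symm
    rw [e, ← map_mul, ← map_mul, inv_mul_cancel_right]

/-- The trace of the product of two commuting averages. -/
theorem trace_avg_mul_avg (g h : G) (n k : ℕ) :
    LinearMap.trace ℂ V (avg ρ g n * avg ρ h k) =
      (n : ℂ)⁻¹ * (k : ℂ)⁻¹ * ∑ i ∈ range n, ∑ j ∈ range k, ρ.character (g ^ i * h ^ j) := by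
  conv_lhs => arg 2; arg 1; rw [avg]
  rw [smul_mul_assoc, sum_mul, map_smul, map_sum, smul_eq_mul,
    sum_congr rfl fun i _ => trace_mul_avg ρ (g ^ i) h k, ← mul_sum, mul_assoc]

/-- An idempotent commuting with a finite-order element bounds the trace of the product. -/
theorem norm_trace_mul_le {e f : Module.End ℂ V} (he : e * e = e) (hc : f * e = e * f) {n : ℕ}
    (hn : n ≠ 0) (hf : f ^ n = 1) :
    ‖LinearMap.trace ℂ V (f * e)‖ ≤ (Module.finrank ℂ (LinearMap.range e) : ℝ) := by
  set W := LinearMap.range e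
  have hW : ∀ w ∈ W, f w ∈ W := by
    rintro _ ⟨a, rfl⟩
    refine ⟨f a, ?_⟩
    rw [← Module.End.mul_apply, ← hc, Module.End.mul_apply]
  have hmem : ∀ a, (f * e) a ∈ W := fun a => hW _ (LinearMap.mem_range_self e a)
  have hrestr : (f * e).restrict (p := W) (q := W) (fun w _ => hmem w) = f.restrict hW := by
    apply LinearMap.ext
    rintro ⟨_, a, rfl⟩
    apply Subtype.ext
    simp only [LinearMap.coe_restrict_apply, Module.End.mul_apply]
    rw [← Module.End.mul_apply e e, he]
  rw [← LinearMap.trace_restrict_eq_of_forall_mem W (f * e) hmem, hrestr]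
  have hpow : (f.restrict hW) ^ n = 1 := by
    rw [Module.End.pow_restrict]
    apply LinearMap.ext
    intro w
    apply Subtype.ext
    simp only [LinearMap.coe_restrict_apply, hf]
    rfl
  obtain ⟨ι, hι, b, ζ, hb⟩ :=
    Cfsg.Agent.Lib.Characters.Diag.exists_eigenbasis_of_pow_eq_one (f.restrict hW) hn hpow
  rw [Cfsg.Agent.Lib.Characters.Diag.trace_eq_sum_eigenvalues b _ ζ fun i => (hb i).1,
    Module.finrank_eq_card_basis b]
  refine (norm_sum_le _ _).trans ?_
  rw [sum_congr rfl fun i _ =>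
    Cfsg.Agent.Lib.Characters.Diag.norm_eq_one_of_pow hn (hb i).2]
  simp

end Cfsg.Agent.Lib.RecogThree.M11.Rep
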