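import Cfsg.Agent.Lib.RecogThree.M11.Model
import Cfsg.Agent.Lib.Golay.Simple
import Cfsg.Prelude.Def_Sporadic

/-!
A simple group of order `7920` is isomorphic to `M₁₁`.
-/

set_option autoImplicit false
set_option linter.style.haveILetI false

namespace Cfsg.Agent.Lib.RecogThree.M11.Unique

open Cfsg.Agent.Lib.Golay
open scoped Pointwise

universe u

theorem equiv_M11 {G : Type u} [Group G] [Finite G] [IsSimpleGroup G] (h : Nat.card G = 7920) :
    Nonempty (G ≃* ↥Cfsg.Spor.M11) := by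
  haveI := isSimple_spor_M11
  exact Model.unique h card_spor_M11

theorem equiv_dodecadPointStab {G : Type u} [Group G] [Finite G] [IsSimpleGroup G]
    (h : Nat.card G = 7920) {d : Finset Cfsg.GolayPt} (hd : d ∈ Cfsg.dodecads) {p : Cfsg.GolayPt}
    (hp : p ∈ d) :
    Nonempty (G ≃* ↥(MulAction.stabilizer Cfsg.M24 d ⊓ MulAction.stabilizer Cfsg.M24 p)) := by
  set K := MulAction.stabilizer Cfsg.M24 d ⊓ MulAction.stabilizer Cfsg.M24 p with hK
  have hmap : K.map (Cfsg.M24.subtype) =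
      dodecadStab d ⊓ MulAction.stabilizer (Equiv.Perm Cfsg.GolayPt) p := by
    ext g
    rw [Subgroup.mem_map, Subgroup.mem_inf, mem_dodecadStab]
    constructor
    · rintro ⟨⟨g', hg'⟩, hm, rfl⟩
      obtain ⟨h1, h2⟩ := Subgroup.mem_inf.mp hm
      exact ⟨⟨hg', MulAction.mem_stabilizer_iff.mp h1⟩, MulAction.mem_stabilizer_iff.mpr h2⟩
    · rintro ⟨⟨h1, h2⟩, h3⟩
      exact ⟨⟨g, h1⟩, Subgroup.mem_inf.mpr ⟨MulAction.mem_stabilizer_iff.mpr h2,
        MulAction.mem_stabilizer_iff.mpr (MulAction.mem_stabilizer_iff.mp h3)⟩, rfl⟩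
  haveI := isSimple_dodecadPointStab hd hp
  obtain ⟨e⟩ := Model.unique h (card_dodecadPointStab hd hp)
  exact ⟨e.trans ((MulEquiv.subgroupCongr hmap).symm.trans
    (K.equivMapOfInjective _ Cfsg.M24.subtype_injective).symm)⟩

end Cfsg.Agent.Lib.RecogThree.M11.Unique
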