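import Cfsg.Agent.Lib.Classif.FirstPowerKills
import Cfsg.Agent.Lib.Spectrum.CommM11
import Cfsg.Agent.Lib.Characters.Kernel

/-!
Groups of order `7920`, not assumed simple: `n₁₁ ≠ 45`, simplicity from `n₁₁ = 144`, and
connectedness of the prime graph otherwise.
-/

set_option autoImplicit false
set_option linter.style.haveILetI false
set_option linter.unusedSectionVars false

namespace Cfsg.Agent.Lib.RecogThree.M11.Order7920

open Cfsg.Agent.Lib.SmallGroups
open Cfsg.Agent.Lib.Characters Cfsg.Agent.Lib.Characters.Basic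
open Cfsg.Agent.Lib.Classif
open Cfsg.Agent.Lib.Classif.PrimeExceptional (deg apply_one_eq)

universe u

variable {G : Type u} [Group G] [Finite G]

/-- An element of prime order normalising a small subgroup centralises it. -/
theorem centralizes {p : ℕ} [hp : Fact p.Prime] {y : G} (hy : orderOf y = p) (Q : Subgroup G)
    (hQ : y ∈ Subgroup.normalizer (Q : Set G))
    (hnum : ∀ d, d ∣ Nat.card Q → d % p = Nat.card Q % p → d = Nat.card Q) :
    ∀ v ∈ Q, Commute v y := by
  have hX : IsPGroup p (Subgroup.zpowers y) :=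
    IsPGroup.of_card (n := 1) (by rw [Nat.card_zpowers, hy, pow_one])
  have hmem : ∀ u : Subgroup.zpowers y, ∀ v ∈ Q, (u : G) * v * (u : G)⁻¹ ∈ Q := fun u v hv =>
    (Subgroup.mem_normalizer_iff.mp ((Subgroup.zpowers_le.mpr hQ) u.2) v).mp hv
  letI : MulAction (Subgroup.zpowers y) Q :=
  { smul := fun u v => ⟨(u : G) * v * (u : G)⁻¹, hmem u v v.2⟩
    one_smul := fun v => Subtype.ext (show (1 : G) * v * (1 : G)⁻¹ = v by group)
    mul_smul := fun u u' v => Subtype.ext (show ((u * u' : Subgroup.zpowers y) : G) * v *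
        ((u * u' : Subgroup.zpowers y) : G)⁻¹ = (u : G) * ((u' : G) * v * (u' : G)⁻¹) * (u : G)⁻¹ by
      rw [Subgroup.coe_mul]; group) }
  have hmod := hX.card_modEq_card_fixedPoints Q
  set S : Subgroup G := Q ⊓ Subgroup.centralizer ({y} : Set G) with hS
  have hfix : Nat.card (MulAction.fixedPoints (Subgroup.zpowers y) Q) = Nat.card S := by
    refine Nat.card_congr
      { toFun := fun v => ⟨(v.1 : G), v.1.2, ?_⟩
        invFun := fun w => ⟨⟨w.1, w.2.1⟩, fun u => ?_⟩
        left_inv := fun v => rfl
        right_inv := fun w => rfl }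
    · have h1 : y * (v.1 : G) * y⁻¹ = v.1 :=
        congrArg Subtype.val (v.2 ⟨y, Subgroup.mem_zpowers y⟩)
      exact Subgroup.mem_centralizer_singleton_iff.mpr (mul_inv_eq_iff_eq_mul.mp h1).symm
    · apply Subtype.ext
      show (u : G) * w.1 * (u : G)⁻¹ = w.1
      obtain ⟨k, hk⟩ := Subgroup.mem_zpowers_iff.mp u.2
      have hc : Commute w.1 y := Subgroup.mem_centralizer_singleton_iff.mp w.2.2
      rw [mul_inv_eq_iff_eq_mul, ← hk]
      exact ((hc.zpow_right k).eq).symm
  rw [hfix] at hmod
  have := hnum (Nat.card S) (Subgroup.card_dvd_of_le inf_le_left) hmod.symm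
  have hSQ : S = Q := Subgroup.eq_of_le_of_card_ge inf_le_left this.ge
  intro v hv
  rw [← hSQ] at hv
  exact Subgroup.mem_centralizer_singleton_iff.mp hv.2

/-- An edge of the prime graph. -/
def Adj (G : Type u) [Group G] (q r : ℕ) : Prop := ∃ g : G, orderOf g = q * r

theorem adj_of_centralizer {q r : ℕ} [Fact q.Prime] [Fact r.Prime] (hqr : q ≠ r) {x : G}
    (hx : orderOf x = r) (C : Subgroup G) (hC : ∀ v ∈ C, Commute v x) (hq : q ∣ Nat.card C) :
    Adj G q r := by
  obtain ⟨⟨v, hv⟩, hvo⟩ := exists_prime_orderOf_dvd_card' (G := C) q hq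
  rw [Subgroup.orderOf_mk] at hvo
  refine ⟨v * x, ?_⟩
  rw [(hC v hv).orderOf_mul_eq_mul_orderOf_of_coprime (by
    rw [hvo, hx]; exact (Nat.coprime_primes Fact.out Fact.out).mpr hqr), hvo, hx]

theorem card_sylow (h : Nat.card G = 7920) {p a m : ℕ} [Fact p.Prime] (he : 7920 = p ^ a * m)
    (hm : ¬ p ∣ m) (P : Sylow p G) : Nat.card (P : Subgroup G) = p ^ a :=
  Sylow.card_sylow_eq P (h.trans he) hm

/-- If `p ∈ {5, 11}` does not divide `n₃`, some element of order `p` commutes with an element of
order `3`. -/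
theorem three_adj (h : Nat.card G = 7920) [Fact (Nat.Prime 3)] (p : ℕ) [hp : Fact p.Prime]
    (hp' : p = 5 ∨ p = 11) (Q : Sylow 3 G) (hn : ¬ p ∣ Nat.card (Sylow 3 G)) : Adj G 3 p := by
  have hQ : Nat.card (Q : Subgroup G) = 9 := card_sylow h (a := 2) (m := 880) (by norm_num) (by norm_num) Q
  have hd : p ∣ Nat.card (Subgroup.normalizer ((Q : Subgroup G) : Set G)) := by
    have := Sylow.card_normalizer_mul Q
    have hpG : p ∣ Nat.card (Subgroup.normalizer ((Q : Subgroup G) : Set G)) *
        Nat.card (Sylow 3 G) := by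
      rw [this, h]; rcases hp' with rfl | rfl <;> norm_num
    exact (hp.out.dvd_mul.mp hpG).resolve_right hn
  obtain ⟨⟨w, hw⟩, hwo⟩ := exists_prime_orderOf_dvd_card'
    (G := Subgroup.normalizer ((Q : Subgroup G) : Set G)) p hd
  rw [Subgroup.orderOf_mk] at hwo
  refine adj_of_centralizer (by omega) hwo (Q : Subgroup G) ?_ (by rw [hQ]; norm_num)
  refine centralizes hwo _ hw fun d hd' hm => ?_
  rw [hQ] at hd' hm ⊢
  have : d ∈ ({1, 3, 9} : Finset ℕ) := by
    rw [show ({1, 3, 9} : Finset ℕ) = Nat.divisors 9 by decide]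
    exact Nat.mem_divisors.mpr ⟨hd', by norm_num⟩
  simp only [Finset.mem_insert, Finset.mem_singleton] at this
  rcases hp' with rfl | rfl <;> rcases this with rfl | rfl | rfl <;> omega

section Eleven

variable [Fact (Nat.Prime 11)] (P : Sylow 11 G)

theorem card_P (h : Nat.card G = 7920) : Nat.card (P : Subgroup G) = 11 := by
  rw [card_sylow h (a := 1) (m := 720) (by norm_num) (by norm_num) P, pow_one]

theorem n11_cases (h : Nat.card G = 7920) :
    Nat.card (Sylow 11 G) = 1 ∨ Nat.card (Sylow 11 G) = 12 ∨ Nat.card (Sylow 11 G) = 45 ∨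
      Nat.card (Sylow 11 G) = 144 := by
  have hd := Sylow.card_sylow_dvd (p := 11) (G := G) (a := 1) (m := 720) (by rw [h]; norm_num)
    (by norm_num)
  have hm := Sylow.card_sylow_mod (G := G) (p := 11)
  have key : ∀ n ∈ Nat.divisors 720, n % 11 = 1 → n = 1 ∨ n = 12 ∨ n = 45 ∨ n = 144 := by
    decide +kernel
  exact key _ (Nat.mem_divisors.mpr ⟨hd, by norm_num⟩) hm

/-- `|C(P)| e = |N(P)|` with `e ∣ 10`. -/
theorem factor (h : Nat.card G = 7920) : ∃ c e : ℕ, 11 ∣ c ∧ e ∣ 10 ∧
    Nat.card (Subgroup.centralizer ((P : Subgroup G) : Set G)) = c ∧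
    (Subgroup.centralizer ((P : Subgroup G) : Set G)).relIndex
      (Subgroup.normalizer ((P : Subgroup G) : Set G)) = e ∧
    c * e = Nat.card (Subgroup.normalizer ((P : Subgroup G) : Set G)) ∧
    c * e * Nat.card (Sylow 11 G) = 7920 := by
  have hP := card_P P h
  haveI := isCyclic_of_prime_card hP
  refine ⟨_, _, ?_, ?_, rfl, rfl, Sylow.card_centralizer_mul_relIndex _, ?_⟩
  · refine (dvd_of_eq hP.symm).trans (Subgroup.card_dvd_of_le fun a ha => ?_)
    rw [Subgroup.mem_centralizer_iff]
    intro b hb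
    exact congrArg Subtype.val
      ((IsCyclic.commGroup (α := (P : Subgroup G))).mul_comm ⟨b, hb⟩ ⟨a, ha⟩)
  · have := Sylow.relIndex_dvd_card_mulAut (P : Subgroup G)
    rwa [IsCyclic.card_mulAut, hP, Nat.totient_prime Fact.out] at this
  · rw [Sylow.card_centralizer_mul_relIndex, Sylow.card_normalizer_mul, h]

theorem commute_of_mem {x v : G} (hx : x ∈ (P : Subgroup G))
    (hv : v ∈ Subgroup.centralizer ((P : Subgroup G) : Set G)) : Commute v x :=
  ((Subgroup.mem_centralizer_iff.mp hv) x hx).symm

theorem exists_gen (h : Nat.card G = 7920) : ∃ x : G, orderOf x = 11 ∧ x ∈ (P : Subgroup G) ∧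
    Subgroup.zpowers x = (P : Subgroup G) := by
  have hP := card_P P h
  obtain ⟨⟨x, hxP⟩, hx⟩ := exists_prime_orderOf_dvd_card' (G := (P : Subgroup G)) 11 (by rw [hP])
  rw [Subgroup.orderOf_mk] at hx
  exact ⟨x, hx, hxP, Subgroup.eq_of_le_of_card_ge (Subgroup.zpowers_le.mpr hxP)
    (by rw [Nat.card_zpowers, hx, hP])⟩

/-- A central Sylow `11`-subgroup in its normaliser forces an element of order `3` to centralise
`P`. -/
theorem three_dvd_of_le (h : Nat.card G = 7920)
    (hle : Subgroup.normalizer ((P : Subgroup G) : Set G) ≤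
      Subgroup.centralizer ((P : Subgroup G) : Set G)) :
    3 ∣ Nat.card (Subgroup.centralizer ((P : Subgroup G) : Set G)) := by
  haveI : Fact (Nat.Prime 3) := ⟨Nat.prime_three⟩
  set M := (MonoidHom.transferSylow P hle).ker
  have hM : ¬ 11 ∣ Nat.card M := MonoidHom.not_dvd_card_ker_transferSylow P hle
  have hMc : Nat.card M * 11 = 7920 := by
    have := (MonoidHom.ker_transferSylow_isComplement' P hle).card_mul
    rwa [card_P P h, h] at this
  obtain ⟨Q₀⟩ := (inferInstance : Nonempty (Sylow 3 M))
  have hQ₀ : Nat.card (Q₀ : Subgroup M) = 9 :=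
    Sylow.card_sylow_eq Q₀ (a := 2) (m := 80) (by omega) (by norm_num)
  have hsup := Sylow.normalizer_sup_eq_top Q₀
  set Q : Subgroup G := (Q₀ : Subgroup M).map M.subtype
  have hQc : Nat.card Q = 9 := by
    rw [← hQ₀]
    exact (Nat.card_congr ((Q₀ : Subgroup M).equivMapOfInjective _ M.subtype_injective).toEquiv).symm
  set N := Subgroup.normalizer (Q : Set G)
  have h11 : 11 ∣ Nat.card N := by
    have h1 : M.relIndex N = M.index := by
      rw [← Subgroup.relIndex_sup_right (K := M) (H := N), hsup, Subgroup.relIndex_top_right]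
    have h2 : M.index = 11 := by
      have := Subgroup.card_mul_index M
      rw [h] at this
      have hpos : 0 < Nat.card M := Nat.card_pos
      exact Nat.eq_of_mul_eq_mul_left hpos (this.trans hMc.symm)
    rw [← h2, ← h1]
    exact Subgroup.relIndex_dvd_card ..
  obtain ⟨⟨w, hw⟩, hwo⟩ := exists_prime_orderOf_dvd_card' (G := N) 11 h11
  rw [Subgroup.orderOf_mk] at hwo
  have hcomm := centralizes hwo Q hw fun d hd hm => by
    rw [hQc] at hd hm ⊢
    have hd9 := Nat.le_of_dvd (by norm_num) hd
    omega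
  -- transport `w` into `P`
  obtain ⟨W, hW⟩ := (IsPGroup.of_card (p := 11) (n := 1)
    (by rw [Nat.card_zpowers, hwo, pow_one] : Nat.card (Subgroup.zpowers w) = 11 ^ 1)).exists_le_sylow
  have hWeq : (W : Subgroup G) = Subgroup.zpowers w :=
    (Subgroup.eq_of_le_of_card_ge hW (by rw [card_P W h, Nat.card_zpowers, hwo])).symm
  obtain ⟨g, hg⟩ := MulAction.exists_smul_eq G W P
  obtain ⟨⟨v, hv⟩, hvo⟩ := exists_prime_orderOf_dvd_card' (G := Q) 3 (by rw [hQc]; norm_num)
  rw [Subgroup.orderOf_mk] at hvo
  have hvC : g * v * g⁻¹ ∈ Subgroup.centralizer ((P : Subgroup G) : Set G) := by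
    rw [Subgroup.mem_centralizer_iff]
    intro b hb
    rw [← hg, SetLike.mem_coe, Sylow.coe_subgroup_smul, hWeq,
      Subgroup.mem_pointwise_smul_iff_inv_smul_mem, MulAut.smul_def, ← map_inv,
      MulAut.conj_apply, inv_inv] at hb
    obtain ⟨k, hk⟩ := Subgroup.mem_zpowers_iff.mp hb
    have hbk : b = g * w ^ k * g⁻¹ := by rw [hk]; group
    have hc : Commute v (w ^ k) := (hcomm v hv).zpow_right k
    calc b * (g * v * g⁻¹) = g * (w ^ k * v) * g⁻¹ := by rw [hbk]; group
      _ = g * (v * w ^ k) * g⁻¹ := by rw [hc.eq]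
      _ = g * v * g⁻¹ * b := by rw [hbk]; group
  have := Subgroup.orderOf_dvd_natCard _ hvC
  rwa [show g * v * g⁻¹ = MulAut.conj g v from rfl, MulEquiv.orderOf_eq, hvo] at this

/-- A proper normal subgroup containing `P` and half of `N(P)` cannot exist when `n₁₁ = 45`. -/
theorem no_half (h : Nat.card G = 7920) (hn : Nat.card (Sylow 11 G) = 45)
    (hC8 : Nat.card (Subgroup.centralizer ((P : Subgroup G) : Set G)) = 88)
    (J : Subgroup G) [hJ : J.Normal] (hJtop : J ≠ ⊤)
    (hCJ : Subgroup.centralizer ((P : Subgroup G) : Set G) ≤ J) : False := by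
  have hPC : (P : Subgroup G) ≤ Subgroup.centralizer ((P : Subgroup G) : Set G) := by
    haveI := isCyclic_of_prime_card (card_P P h)
    intro a ha
    rw [Subgroup.mem_centralizer_iff]
    intro b hb
    exact congrArg Subtype.val
      ((IsCyclic.commGroup (α := (P : Subgroup G))).mul_comm ⟨b, hb⟩ ⟨a, ha⟩)
  have hPJ : (P : Subgroup G) ≤ J := hPC.trans hCJ
  set N := Subgroup.normalizer ((P : Subgroup G) : Set G) with hN
  have hNc : Nat.card N = 176 := by
    have := Sylow.card_normalizer_mul P
    rw [hn, h, ← hN] at this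
    omega
  have hsup : N ⊔ J = ⊤ := by
    have := Sylow.normalizer_sup_eq_top (P.subtype hPJ)
    rwa [Sylow.coe_subtype, Subgroup.map_subgroupOf_eq_of_le hPJ] at this
  have hidx : J.relIndex N = J.index := by
    rw [← Subgroup.relIndex_sup_right (K := J) (H := N), hsup, Subgroup.relIndex_top_right]
  have hd : J.index ∣ 2 := by
    rw [← hidx]
    have h1 : J.relIndex N ∣ (Subgroup.centralizer ((P : Subgroup G) : Set G)).relIndex N :=
      Subgroup.relIndex_dvd_of_le_left _ hCJ
    have h2 := Sylow.card_centralizer_mul_relIndex (P : Subgroup G)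
    rw [hC8, ← hN, hNc] at h2
    rwa [show (Subgroup.centralizer ((P : Subgroup G) : Set G)).relIndex N = 2 by omega] at h1
  rcases (Nat.dvd_prime Nat.prime_two).mp hd with e | e
  · exact hJtop (Subgroup.index_eq_one.mp e)
  -- inside `J` the Sylow subgroup is central in its normaliser
  have hJc : Nat.card J = 3960 := by
    have := Subgroup.card_mul_index J
    rw [e, h] at this
    omega
  have hle : Subgroup.normalizer (((P.subtype hPJ : Sylow 11 J) : Subgroup J) : Set J) ≤
      Subgroup.centralizer (((P.subtype hPJ : Sylow 11 J) : Subgroup J) : Set J) := by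
    intro a ha
    have haN : (a : G) ∈ N ⊓ J := by
      refine ⟨?_, a.2⟩
      rw [Sylow.coe_subtype, ← Subgroup.subgroupOf_normalizer_eq hPJ] at ha
      exact ha
    have hinf : N ⊓ J = Subgroup.centralizer ((P : Subgroup G) : Set G) := by
      refine (Subgroup.eq_of_le_of_card_ge (le_inf (Subgroup.centralizer_le_normalizer _) hCJ) ?_).symm
      rw [hC8]
      have h3 : Nat.card ↥(N ⊓ J) * J.relIndex N = Nat.card N := by
        rw [← Subgroup.inf_relIndex_left N J, ← Nat.card_congr
          (Subgroup.subgroupOfEquivOfLe (inf_le_left : N ⊓ J ≤ N)).toEquiv]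
        exact Subgroup.card_mul_index _
      rw [hidx, e, hNc] at h3
      show Nat.card ↥(N ⊓ J) ≤ 88
      omega
    rw [hinf] at haN
    rw [Subgroup.mem_centralizer_iff]
    intro b hb
    exact Subtype.ext (Subgroup.mem_centralizer_iff.mp haN (b : G) hb)
  set M := (MonoidHom.transferSylow (P.subtype hPJ) hle).ker
  haveI : Fact (Nat.Prime 3) := ⟨Nat.prime_three⟩
  have hPJc : Nat.card ((P.subtype hPJ : Sylow 11 J) : Subgroup J) = 11 := by
    rw [Sylow.coe_subtype, Nat.card_congr (Subgroup.subgroupOfEquivOfLe hPJ).toEquiv, card_P P h]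
  have hMc : Nat.card M * 11 = 3960 := by
    have := (MonoidHom.ker_transferSylow_isComplement' (P.subtype hPJ) hle).card_mul
    rwa [hPJc, hJc] at this
  obtain ⟨Q₀⟩ := (inferInstance : Nonempty (Sylow 3 M))
  have hQ₀ : Nat.card (Q₀ : Subgroup M) = 9 :=
    Sylow.card_sylow_eq Q₀ (a := 2) (m := 40) (by omega) (by norm_num)
  have hsupJ := Sylow.normalizer_sup_eq_top Q₀
  set Q : Subgroup J := (Q₀ : Subgroup M).map M.subtype
  have hQc : Nat.card Q = 9 := by
    rw [← hQ₀]
    exact (Nat.card_congr ((Q₀ : Subgroup M).equivMapOfInjective _ M.subtype_injective).toEquiv).symm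
  have h11 : 11 ∣ Nat.card (Subgroup.normalizer (Q : Set J)) := by
    have h1 : M.relIndex (Subgroup.normalizer (Q : Set J)) = M.index := by
      rw [← Subgroup.relIndex_sup_right (K := M) (H := Subgroup.normalizer (Q : Set J)), hsupJ,
        Subgroup.relIndex_top_right]
    have h2 : M.index = 11 := by
      have := Subgroup.card_mul_index M
      rw [hJc] at this
      exact Nat.eq_of_mul_eq_mul_left Nat.card_pos (this.trans hMc.symm)
    rw [← h2, ← h1]
    exact Subgroup.relIndex_dvd_card ..
  obtain ⟨⟨w, hw⟩, hwo⟩ :=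
    exists_prime_orderOf_dvd_card' (G := Subgroup.normalizer (Q : Set J)) 11 h11
  rw [Subgroup.orderOf_mk] at hwo
  have hcomm := centralizes hwo Q hw fun d hd hm => by
    rw [hQc] at hd hm ⊢
    have := Nat.le_of_dvd (by norm_num) hd
    omega
  -- conjugate `w` into `P`
  obtain ⟨W, hW⟩ := (IsPGroup.of_card (p := 11) (n := 1)
    (by rw [Nat.card_zpowers, Subgroup.orderOf_coe, hwo, pow_one] :
      Nat.card (Subgroup.zpowers (w : G)) = 11 ^ 1)).exists_le_sylow
  obtain ⟨g, hg⟩ := MulAction.exists_smul_eq G W P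
  have hwP : g * (w : G) * g⁻¹ ∈ (P : Subgroup G) := by
    rw [← hg, Sylow.coe_subgroup_smul, Subgroup.mem_pointwise_smul_iff_inv_smul_mem,
      MulAut.smul_def, ← map_inv, MulAut.conj_apply, inv_inv]
    convert hW (Subgroup.mem_zpowers _) using 1
    group
  obtain ⟨⟨v, hv⟩, hvo⟩ := exists_prime_orderOf_dvd_card' (G := Q) 3 (by rw [hQc]; norm_num)
  rw [Subgroup.orderOf_mk] at hvo
  have hvC : g * (v : G) * g⁻¹ ∈ Subgroup.centralizer ((P : Subgroup G) : Set G) := by
    rw [Subgroup.mem_centralizer_iff]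
    intro b hb
    have hgen : Subgroup.zpowers (g * (w : G) * g⁻¹) = (P : Subgroup G) :=
      Subgroup.eq_of_le_of_card_ge (Subgroup.zpowers_le.mpr hwP) (by
        rw [Nat.card_zpowers, card_P P h, show g * (w : G) * g⁻¹ = MulAut.conj g (w : G) from rfl,
          MulEquiv.orderOf_eq, Subgroup.orderOf_coe, hwo])
    rw [SetLike.mem_coe, ← hgen] at hb
    obtain ⟨k, rfl⟩ := Subgroup.mem_zpowers_iff.mp hb
    have hc : Commute (v : G) (w : G) := congrArg Subtype.val (hcomm v hv)
    rw [conj_zpow]
    calc g * (w : G) ^ k * g⁻¹ * (g * v * g⁻¹) = g * ((w : G) ^ k * v) * g⁻¹ := by group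
      _ = g * ((v : G) * (w : G) ^ k) * g⁻¹ := by rw [(hc.zpow_right k).eq]
      _ = g * v * g⁻¹ * (g * (w : G) ^ k * g⁻¹) := by group
  have := Subgroup.orderOf_dvd_natCard _ hvC
  rw [show g * (v : G) * g⁻¹ = MulAut.conj g (v : G) from rfl, MulEquiv.orderOf_eq,
    Subgroup.orderOf_coe, hvo, hC8] at this
  norm_num at this

theorem signed_values (c : ℤ) (h1 : (11 : ℤ) ∣ c - 1) (hd : c.natAbs ∣ 7920)
    (hd' : (1 + c).natAbs ∣ 7920) (hsq : c ^ 2 + 5 * (1 + c) ^ 2 < 7920) : c = 1 ∨ c = -10 := by
  obtain ⟨k, hk⟩ := h1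
  have hb : -4 ≤ k ∧ k ≤ 4 := by constructor <;> nlinarith
  obtain ⟨hb1, hb2⟩ := hb
  obtain rfl : c = 11 * k + 1 := by omega
  interval_cases k <;> first
    | exact Or.inl rfl
    | exact Or.inr rfl
    | (exfalso; revert hd hd'; decide +kernel)

theorem n11_ne_45 (h : Nat.card G = 7920) : Nat.card (Sylow 11 G) ≠ 45 := by
  classical
  intro hn
  haveI := Fintype.ofFinite G
  haveI : Fact (Nat.Prime 2) := ⟨Nat.prime_two⟩
  obtain ⟨P⟩ := (inferInstance : Nonempty (Sylow 11 G))
  obtain ⟨c, e, h11, he, hc, hrel, hce, hcen⟩ := factor P h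
  have hP := card_P P h
  have hce' : c * e = 176 := by rw [hn] at hcen; omega
  have he2 : e = 2 := by
    have := Nat.le_of_dvd (by norm_num) he
    interval_cases e <;> (try norm_num at he) <;> (try omega)
    have hle := Subgroup.relIndex_eq_one.mp hrel
    have h3 := three_dvd_of_le P h hle
    rw [hc, show c = 176 by omega] at h3
    norm_num at h3
  subst he2
  have hc88 : c = 88 := by omega
  subst hc88
  obtain ⟨D⟩ := FirstPowerData.exists_data P hP hrel
  obtain ⟨χ, hK⟩ := Finset.card_eq_one.mp (show D.K.card = 1 by have := D.card_K; omega)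
  have hχ : χ ∈ D.K := by rw [hK]; exact Finset.mem_singleton_self χ
  have hdeg := D.degree_eq
  have hsq := D.square_sum
  rw [hK, Finset.sum_singleton] at hdeg hsq
  rw [h, show D.fam.card = 5 by have := D.fam_card; omega] at hsq
  have hcd : (D.a χ * deg χ).natAbs ∣ 7920 := by
    have h' : (deg χ).natAbs ∣ Nat.card G := by
      rw [PrimeExceptional.natAbs_deg]; exact H80.ClassMult.charDegree_dvd_card χ
    rw [h] at h'
    rcases D.a_unit χ hχ with e1 | e1 <;> rw [e1] <;> simpa using h'
  have hTd : (1 + D.a χ * deg χ).natAbs ∣ 7920 := by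
    have h' : (deg D.θ).natAbs ∣ Nat.card G := by
      rw [PrimeExceptional.natAbs_deg]; exact H80.ClassMult.charDegree_dvd_card D.θ
    rw [h] at h'
    rw [hdeg]
    rcases D.δ_unit with e1 | e1 <;> rw [e1] <;> simpa using h'
  have hcong : (11 : ℤ) ∣ D.a χ * deg χ - 1 := by
    have := D.deg_cong hP hχ
    rcases D.a_unit χ hχ with e1 | e1 <;> rw [e1] at this ⊢ <;> push_cast at this <;> omega
  have hcases := signed_values _ hcong hcd hTd (by
    rw [hdeg, mul_pow, mul_pow]
    push_cast at hsq
    rcases D.δ_unit with e1 | e1 <;> rcases D.a_unit χ hχ with e2 | e2 <;> rw [e1, e2] <;> linarith)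
  have hpos : 0 < deg χ := by
    rw [PrimeExceptional.deg]; exact_mod_cast (H80.ClassMult.deg_spec χ).1
  set C := Subgroup.centralizer ((P : Subgroup G) : Set G) with hCdef
  obtain ⟨x, hx, hxP, hzP⟩ := exists_gen P h
  have hc2 : (deg χ = 1 ∧ D.a χ = 1) ∨ (deg χ = 10 ∧ D.a χ = -1) := by
    rcases D.a_unit χ hχ with e1 | e1 <;> rw [e1] at hcases <;> omega
  have hch := isCharacter_irr χ
  set L := Kernel.charKer hch with hL
  haveI : L.Normal := Kernel.charKer_normal hch
  -- two-elements of `C(P)` act trivially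
  have hker2 : ∀ k : ℕ, ∀ v ∈ C, v ^ 2 ^ k = 1 → v ∈ L := by
    intro k
    induction k with
    | zero => intro v _ hv; rw [pow_zero, pow_one] at hv; exact hv ▸ L.one_mem
    | succ k ih =>
      intro v hv hv2
      have h2L : v * v ∈ L := ih _ (mul_mem hv hv) (by
        rw [← pow_two, ← pow_mul, ← pow_succ']; exact hv2)
      obtain ⟨d, ρ, -, hρ⟩ := exists_rep χ
      have hρv : ρ v * ρ v = 1 := by
        rw [← map_mul]
        refine (Kernel.rep_eq_one_iff ρ (v * v)).mpr ?_
        rw [hρ]
        exact (Kernel.mem_charKer hch _).mp h2L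
      obtain ⟨ι, hι, b, ζ, hb⟩ :=
        Diag.exists_eigenbasis_of_pow_eq_one (ρ v) two_ne_zero (by rw [pow_two]; exact hρv)
      set S : Finset ι := Finset.univ.filter fun i => ζ i = -1
      have hval : (χ : G → ℂ) v = ((deg χ - 2 * S.card : ℤ) : ℂ) := by
        have hd : deg χ = (Fintype.card ι : ℤ) := by
          have h1 := apply_one_eq χ
          rw [← hρ, Representation.char_one, Module.finrank_eq_card_basis b] at h1
          exact_mod_cast h1.symm
        rw [← hρ, Representation.character, Diag.trace_eq_sum_eigenvalues b _ ζ fun i => (hb i).1,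
          Finset.sum_congr rfl (g := fun i => 1 - 2 * if ζ i = -1 then (1 : ℂ) else 0) fun i _ => by
            rcases sq_eq_one_iff.1 (hb i).2 with h' | h' <;> rw [h'] <;> norm_num,
          Finset.sum_sub_distrib, ← Finset.mul_sum, Finset.sum_boole, hd]
        simp [S]
      have hv11 : ¬ 11 ∣ orderOf v := fun hd => by
        have := hd.trans (orderOf_dvd_of_pow_eq_one hv2)
        exact absurd ((by norm_num : Nat.Prime 11).dvd_of_dvd_pow this) (by norm_num)
      have hint := D.value_cong hP hχ hv hv11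
      rw [hval, ← Int.cast_sub] at hint
      have hdvd := FirstPowerData.int_dvd_of_isIntegral (by norm_num) hint
      have hS : (S.card : ℤ) ≤ deg χ := by
        have h1 := apply_one_eq χ
        rw [← hρ, Representation.char_one, Module.finrank_eq_card_basis b] at h1
        have : (Fintype.card ι : ℤ) = deg χ := by exact_mod_cast h1
        rw [← this]; exact_mod_cast S.card_le_univ
      have hS0 : (S.card : ℤ) = 0 := by
        push_cast at hdvd
        rcases hc2 with ⟨e1, e2⟩ | ⟨e1, e2⟩ <;> rw [e1, e2] at hdvd <;> rw [e1] at hS <;> omega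
      rw [hL, Kernel.mem_charKer, hval, hS0, apply_one_eq]
      simp
  have hxval : (χ : G → ℂ) x = (D.a χ : ℂ) := by
    have hx1 : x ≠ 1 := fun e1 => by rw [e1, orderOf_one] at hx; omega
    simpa using D.value χ hχ x hxP hx1 1 (one_mem _) (by rw [orderOf_one]; norm_num)
  obtain ⟨T₀, hT₀⟩ := Sylow.exists_subgroup_card_pow_prime 2 (G := C) (n := 3)
    (by rw [hc]; norm_num)
  set T : Subgroup G := T₀.map C.subtype with hT
  have hTc : Nat.card T = 8 := by
    rw [hT, Nat.card_congr (T₀.equivMapOfInjective _ C.subtype_injective).symm.toEquiv, hT₀]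
    norm_num
  have hTC : T ≤ C := Subgroup.map_subtype_le T₀
  have hTL : T ≤ L := fun v hv => hker2 3 v (hTC hv) (by
    have := pow_card_eq_one' (x := (⟨v, hv⟩ : T))
    rw [hTc] at this
    simpa using congrArg Subtype.val this)
  rcases hc2 with ⟨e1, e2⟩ | ⟨e1, e2⟩
  · -- a linear character: its kernel
    have hxL : x ∈ L := by rw [hL, Kernel.mem_charKer, hxval, e2, apply_one_eq, e1]
    refine no_half P h hn hc L ?_ ?_
    · intro htop
      refine D.one_not_mem ?_
      have : χ = oneChar G := Subtype.ext (funext fun g => by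
        have : g ∈ L := htop ▸ Subgroup.mem_top g
        rw [hL, Kernel.mem_charKer, apply_one_eq, e1] at this
        rw [this, oneChar_apply, Int.cast_one])
      exact this ▸ hχ
    · have h88 : 88 ∣ Nat.card ↥(L ⊓ C) := by
        refine Nat.Coprime.mul_dvd_of_dvd_of_dvd (m := 8) (n := 11) (by norm_num)
          (hTc ▸ Subgroup.card_dvd_of_le (le_inf hTL hTC)) ?_
        rw [← hx]
        refine Subgroup.orderOf_dvd_natCard _ ⟨hxL, ?_⟩
        show x ∈ Subgroup.centralizer ((P : Subgroup G) : Set G)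
        rw [Subgroup.mem_centralizer_iff]
        intro b hb
        rw [SetLike.mem_coe, ← hzP] at hb
        obtain ⟨k, rfl⟩ := Subgroup.mem_zpowers_iff.mp hb
        exact ((Commute.refl x).zpow_left k).eq
      have := Subgroup.eq_of_le_of_card_ge (inf_le_right : L ⊓ C ≤ C)
        (by rw [hc]; exact Nat.le_of_dvd Nat.card_pos h88)
      exact this.ge.trans inf_le_left
  · -- degree 10: the quotient by the kernel has twice odd order
    have h11L : ¬ 11 ∣ Nat.card L := by
      intro hd
      obtain ⟨⟨w, hw⟩, hwo⟩ := exists_prime_orderOf_dvd_card' (G := L) 11 hd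
      rw [Subgroup.orderOf_mk] at hwo
      have hwP : ∀ W : Sylow 11 G, w ∈ (W : Subgroup G) → (W : Subgroup G) = Subgroup.zpowers w :=
        fun W hW => (Subgroup.eq_of_le_of_card_ge (Subgroup.zpowers_le.mpr hW)
          (by rw [card_P W h, Nat.card_zpowers, hwo])).symm
      obtain ⟨W, hW⟩ := (IsPGroup.of_card (p := 11) (n := 1)
        (by rw [Nat.card_zpowers, hwo, pow_one] :
          Nat.card (Subgroup.zpowers w) = 11 ^ 1)).exists_le_sylow
      obtain ⟨g, hg⟩ := MulAction.exists_smul_eq G W P
      have hxm : x ∈ ((g • W : Sylow 11 G) : Subgroup G) := by rw [hg]; exact hxP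
      rw [Sylow.coe_subgroup_smul, hwP W (hW (Subgroup.mem_zpowers w)),
        Subgroup.mem_pointwise_smul_iff_inv_smul_mem, MulAut.smul_def, ← map_inv,
        MulAut.conj_apply, inv_inv] at hxm
      have hxL : g⁻¹ * x * g ∈ L := (Subgroup.zpowers_le.mpr hw) hxm
      have := Subgroup.Normal.conj_mem inferInstance _ hxL g
      rw [show g * (g⁻¹ * x * g) * g⁻¹ = x by group, hL, Kernel.mem_charKer, hxval, e2,
        apply_one_eq, e1] at this
      norm_num at this
    have hLc : 8 ∣ Nat.card L := hTc ▸ Subgroup.card_dvd_of_le hTL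
    have hq : Nat.card (G ⧸ L) * Nat.card L = 7920 := by
      rw [← h, ← Subgroup.index_eq_card]; exact Subgroup.index_mul_card L
    -- faithful on the quotient: more than `505`
    have h505 : 505 < Nat.card (G ⧸ L) := by
      obtain ⟨φ, hφc, hφeq, hφirr⟩ := Kernel.exists_descend L hch fun g hg => hg
      have hθ : ∀ g ∈ L, (D.θ : G → ℂ) g = (D.θ : G → ℂ) 1 := by
        intro g hg
        have hg11 : ¬ 11 ∣ orderOf g := fun hd =>
          h11L (hd.trans (Subgroup.orderOf_dvd_natCard L hg))
        have h1 := D.rel g hg11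
        have h2 := D.rel 1 (by rw [orderOf_one]; norm_num)
        rw [hK, Finset.sum_singleton, show (χ : G → ℂ) g = (χ : G → ℂ) 1 from hg] at h1
        rw [hK, Finset.sum_singleton] at h2
        rcases D.δ_unit with e3 | e3 <;> rw [e3] at h1 h2 <;> push_cast at h1 h2
        · linear_combination h2 - h1
        · linear_combination h1 - h2
      have hfamL : ∀ θ' ∈ D.fam, ∀ g ∈ L, (θ' : G → ℂ) g = (θ' : G → ℂ) 1 := fun θ' hθ' g hg => by
        rw [D.fam_regular θ' hθ' g (fun hd => h11L (hd.trans (Subgroup.orderOf_dvd_natCard L hg))),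
          D.fam_regular θ' hθ' 1 (by rw [orderOf_one]; norm_num), hθ g hg]
      have hall : ∀ ψ ∈ insert (oneChar G) (D.K ∪ D.fam), ∀ g ∈ L,
          (ψ : G → ℂ) g = (ψ : G → ℂ) 1 := by
        intro ψ hψ g hg
        simp only [Finset.mem_insert, Finset.mem_union, hK, Finset.mem_singleton] at hψ
        rcases hψ with rfl | rfl | hψ
        · rfl
        · exact hg
        · exact hfamL ψ hψ g hg
      letI : Fintype (Cfsg.IrrCharacter (G ⧸ L)) := Fintype.ofFinite _
      choose f hfc hfeq hfirr using fun (ψ : {ψ // ψ ∈ insert (oneChar G) (D.K ∪ D.fam)}) =>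
        Kernel.exists_descend L (isCharacter_irr ψ.1) (hall ψ.1 ψ.2)
      let F : {ψ // ψ ∈ insert (oneChar G) (D.K ∪ D.fam)} → Cfsg.IrrCharacter (G ⧸ L) :=
        fun ψ => ⟨f ψ, hfirr ψ ψ.1.2⟩
      have hFinj : Function.Injective F := fun a b e3 => by
        apply Subtype.ext; apply Subtype.ext
        have : f a = f b := congrArg Subtype.val e3
        rw [← hfeq a, ← hfeq b, this]
      have hFd : ∀ ψ, deg (F ψ) = deg ψ.1 := fun ψ => by
        have h1 := apply_one_eq (F ψ)
        have h2 := apply_one_eq ψ.1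
        have h3 : (F ψ : G ⧸ L → ℂ) 1 = (ψ.1 : G → ℂ) 1 := by
          show f ψ 1 = _
          rw [← hfeq ψ]
          rfl
        rw [h3, h2] at h1
        exact_mod_cast h1.symm
      haveI := Fintype.ofFinite (G ⧸ L)
      have hsum := PrimeExceptional.sum_deg_sq (G := G ⧸ L)
      have hle : ∑ ψ : {ψ // ψ ∈ insert (oneChar G) (D.K ∪ D.fam)}, deg (F ψ) ^ 2 ≤
          ∑ ψ : Cfsg.IrrCharacter (G ⧸ L), deg ψ ^ 2 := by
        rw [← Finset.sum_image (g := F) (f := fun ψ => deg ψ ^ 2) hFinj.injOn]
        exact Finset.sum_le_sum_of_subset_of_nonneg (Finset.subset_univ _)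
          fun ψ _ _ => sq_nonneg _
      rw [hsum, Finset.sum_congr rfl (fun ψ _ => by rw [hFd ψ]),
        Finset.sum_coe_sort _ (fun ψ => deg ψ ^ 2), Finset.sum_insert
          (by simp [D.one_not_mem, D.fam_one]), Finset.sum_union D.fam_disj, hK,
        Finset.sum_singleton, Finset.sum_congr (s₁ := D.fam) rfl
          (fun θ' hθ' => by rw [D.fam_deg θ' hθ']), Finset.sum_const,
        show D.fam.card = 5 by have := D.fam_card; omega, PrimeExceptional.deg_oneChar, e1] at hle
      have hθ2 : deg D.θ ^ 2 = 81 := by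
        rw [e1, e2] at hdeg
        rcases D.δ_unit with e3 | e3 <;> rw [e3] at hdeg <;> push_cast at hdeg <;>
          nlinarith
      rw [hθ2] at hle
      norm_num at hle
      rw [Nat.card_eq_fintype_card]
      omega
    have hL8 : Nat.card L = 8 := by
      obtain ⟨k, hk⟩ := hLc
      rw [hk] at hq ⊢
      have : 0 < k := by
        rcases Nat.eq_zero_or_pos k with rfl | hk0
        · omega
        · exact hk0
      by_contra hne
      have : 2 ≤ k := by omega
      nlinarith
    have hqc : Nat.card (G ⧸ L) = 990 := by rw [hL8] at hq; omega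
    obtain ⟨S⟩ := (inferInstance : Nonempty (Sylow 2 (G ⧸ L)))
    have hSc : Nat.card (S : Subgroup (G ⧸ L)) = 2 :=
      Sylow.card_sylow_eq S (a := 1) (m := 495) (by rw [hqc]; norm_num) (by norm_num)
    haveI := isCyclic_of_prime_card hSc
    have hle : Subgroup.normalizer ((S : Subgroup (G ⧸ L)) : Set (G ⧸ L)) ≤
        Subgroup.centralizer ((S : Subgroup (G ⧸ L)) : Set (G ⧸ L)) :=
      IsCyclic.normalizer_le_centralizer (by rw [hqc]; norm_num) inferInstance
    set M := (MonoidHom.transferSylow S hle).ker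
    have hMidx : M.index = 2 := by
      rw [(MonoidHom.ker_transferSylow_isComplement' S hle).symm.index_eq_card, hSc]
    set J := M.comap (QuotientGroup.mk' L) with hJdef
    have hJidx : J.index = 2 := by
      rw [hJdef, Subgroup.index_comap_of_surjective _ (QuotientGroup.mk'_surjective L), hMidx]
    have hLJ : L ≤ J := fun g hg => by
      rw [hJdef, Subgroup.mem_comap, show QuotientGroup.mk' L g = 1 from
        (QuotientGroup.eq_one_iff g).mpr hg]
      exact M.one_mem
    have hxJ : x ∈ J := by
      have hx2 : x = (x * x) ^ 6 := by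
        rw [← pow_two, ← pow_mul, show 2 * 6 = 11 + 1 from rfl, pow_succ, ← hx,
          pow_orderOf_eq_one, one_mul]
      rw [hx2]
      exact pow_mem (Subgroup.mul_self_mem_of_index_two hJidx x) 6
    refine no_half P h hn hc J ?_ ?_
    · intro htop
      rw [htop, Subgroup.index_top] at hJidx
      omega
    · have h88 : 88 ∣ Nat.card ↥(J ⊓ C) := by
        refine Nat.Coprime.mul_dvd_of_dvd_of_dvd (m := 8) (n := 11) (by norm_num)
          (hTc ▸ Subgroup.card_dvd_of_le (le_inf (hTL.trans hLJ) hTC)) ?_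
        rw [← hx]
        refine Subgroup.orderOf_dvd_natCard _ ⟨hxJ, ?_⟩
        show x ∈ Subgroup.centralizer ((P : Subgroup G) : Set G)
        rw [Subgroup.mem_centralizer_iff]
        intro b hb
        rw [SetLike.mem_coe, ← hzP] at hb
        obtain ⟨k, rfl⟩ := Subgroup.mem_zpowers_iff.mp hb
        exact ((Commute.refl x).zpow_left k).eq
      have := Subgroup.eq_of_le_of_card_ge (inf_le_right : J ⊓ C ≤ C)
        (by rw [hc]; exact Nat.le_of_dvd Nat.card_pos h88)
      exact this.ge.trans inf_le_left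

theorem centralizer_eq (h : Nat.card G = 7920) (hn : Nat.card (Sylow 11 G) = 144) :
    Nat.card (Subgroup.centralizer ((P : Subgroup G) : Set G)) = 11 := by
  obtain ⟨c, e, h11, he, hc, hrel, hce, hcen⟩ := factor P h
  rw [hn] at hcen
  have hce' : c * e = 55 := by omega
  rw [hc]
  have := Nat.le_of_dvd (by norm_num) he
  interval_cases e <;> (try norm_num at he) <;> (try omega)
  have hle := Subgroup.relIndex_eq_one.mp hrel
  have h3 := three_dvd_of_le P h hle
  rw [hc, show c = 55 by omega] at h3
  norm_num at h3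

theorem isSimpleGroup_of_144 (h : Nat.card G = 7920) (hn : Nat.card (Sylow 11 G) = 144) :
    IsSimpleGroup G := by
  obtain ⟨P⟩ := (inferInstance : Nonempty (Sylow 11 G))
  obtain ⟨x, hx, hxP, hz⟩ := exists_gen P h
  refine Spectrum.CommM11.isSimpleGroup h hx fun v hv => ?_
  have hP := card_P P h
  have hC : Subgroup.centralizer ((P : Subgroup G) : Set G) = P := by
    refine (Subgroup.eq_of_le_of_card_ge ?_ (by rw [centralizer_eq P h hn, hP])).symm
    rw [← hz, Subgroup.zpowers_le, Subgroup.mem_centralizer_iff]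
    intro b hb
    obtain ⟨k, rfl⟩ := Subgroup.mem_zpowers_iff.mp hb
    exact ((Commute.refl x).zpow_left k).eq
  rw [hz, ← hC, Subgroup.mem_centralizer_iff]
  intro b hb
  rw [SetLike.mem_coe, ← hz] at hb
  obtain ⟨k, rfl⟩ := Subgroup.mem_zpowers_iff.mp hb
  exact ((show Commute x v from hv.symm).zpow_left k).eq

/-- The edges `11 — 2`, `11 — 3`, and `5` joined to one of `11`, `2`, `3`. -/
theorem connected (h : Nat.card G = 7920) (hn : Nat.card (Sylow 11 G) ≠ 144) :
    Adj G 2 11 ∧ Adj G 3 11 ∧ (Adj G 5 11 ∨ Adj G 2 5 ∨ Adj G 3 5) := by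
  classical
  haveI : Fact (Nat.Prime 2) := ⟨Nat.prime_two⟩
  haveI : Fact (Nat.Prime 3) := ⟨Nat.prime_three⟩
  haveI : Fact (Nat.Prime 5) := ⟨by norm_num⟩
  obtain ⟨P⟩ := (inferInstance : Nonempty (Sylow 11 G))
  obtain ⟨c, e, h11, he, hc, hrel, hce, hcen⟩ := factor P h
  obtain ⟨x, hx, hxP, hz⟩ := exists_gen P h
  have hadj : ∀ q, q.Prime → q ≠ 11 → q ∣ c → Adj G q 11 := fun q hq hne hd => by
    haveI : Fact q.Prime := ⟨hq⟩
    exact adj_of_centralizer hne hx _ (fun v hv => commute_of_mem P hxP hv) (hc.symm ▸ hd)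
  have he' : e = 1 ∨ e = 2 ∨ e = 5 ∨ e = 10 := by
    have := Nat.le_of_dvd (by norm_num) he
    interval_cases e <;> (try norm_num at he) <;> norm_num
  rcases n11_cases h with h1 | h12 | h45 | h144
  · rw [h1, mul_one] at hcen
    refine ⟨hadj 2 Nat.prime_two (by norm_num) ?_, hadj 3 Nat.prime_three (by norm_num) ?_, ?_⟩
    · rcases he' with rfl | rfl | rfl | rfl <;> omega
    · rcases he' with rfl | rfl | rfl | rfl <;> omega
    · by_cases h5 : 5 ∣ c
      · exact Or.inl (hadj 5 (by norm_num) (by norm_num) h5)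
      right; right
      haveI hPn : (P : Subgroup G).Normal := by
        rw [← Subgroup.normalizer_eq_top_iff]
        refine Subgroup.eq_top_of_card_eq _ ?_
        rw [← hce, h, hcen]
      set C := Subgroup.centralizer ((P : Subgroup G) : Set G) with hCdef
      obtain ⟨Q⟩ := (inferInstance : Nonempty (Sylow 3 G))
      refine three_adj h 5 (Or.inl rfl) Q fun hd => h5 ?_
      have hQC : ∀ Q' : Sylow 3 G, (Q' : Subgroup G) ≤ C := by
        intro Q' a ha
        obtain ⟨k, hk⟩ := Q'.isPGroup' ⟨a, ha⟩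
        have hk' : a ^ 3 ^ k = 1 := by simpa using congrArg Subtype.val hk
        have hdvd : orderOf (QuotientGroup.mk' C a) ∣ 1 := by
          have h1' : orderOf (QuotientGroup.mk' C a) ∣ 3 ^ k :=
            (orderOf_map_dvd _ a).trans (orderOf_dvd_of_pow_eq_one hk')
          have h2' : orderOf (QuotientGroup.mk' C a) ∣ e := by
            refine (orderOf_dvd_natCard _).trans (dvd_of_eq ?_)
            have h3 := Subgroup.card_mul_index C
            rw [hc, h, ← hcen, Subgroup.index_eq_card] at h3
            exact Nat.eq_of_mul_eq_mul_left (Nat.pos_of_dvd_of_pos (dvd_refl c)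
              (by rcases he' with rfl | rfl | rfl | rfl <;> omega)) h3
          have h10 : orderOf (QuotientGroup.mk' C a) ∣ 10 := h2'.trans he
          rw [← (Nat.Coprime.pow_left k (by norm_num : Nat.Coprime 3 10))]
          exact Nat.dvd_gcd h1' h10
        rw [Nat.dvd_one, orderOf_eq_one_iff] at hdvd
        exact (QuotientGroup.eq_one_iff a).mp hdvd
      have hsub : Nat.card (Sylow 3 G) = Nat.card (Sylow 3 C) := by
        refine Nat.card_eq_of_bijective (fun Q' => Q'.subtype (hQC Q')) ⟨?_, ?_⟩
        · intro Q₁ Q₂ e1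
          exact Sylow.subtype_injective e1
        · intro R
          obtain ⟨Q', hQ'⟩ := (R.isPGroup'.map C.subtype).exists_le_sylow
          refine ⟨Q', Sylow.ext ?_⟩
          refine (Subgroup.eq_of_le_of_card_ge ?_ ?_).symm
          · intro a ha
            exact hQ' ⟨a, ha, rfl⟩
          · rw [Sylow.coe_subtype, Nat.card_congr (Subgroup.subgroupOfEquivOfLe (hQC Q')).toEquiv,
              card_sylow h (a := 2) (m := 880) (by norm_num) (by norm_num) Q',
              Sylow.card_sylow_eq R (a := 2) (m := c / 9)]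
            · rw [hc]
              rcases he' with rfl | rfl | rfl | rfl <;> omega
            · rcases he' with rfl | rfl | rfl | rfl <;> omega
      rw [hsub] at hd
      have := hd.trans ((Sylow.card_dvd_index (default : Sylow 3 C)).trans
        (Subgroup.index_dvd_card _))
      rwa [hc] at this
  · rw [h12] at hcen
    refine ⟨hadj 2 Nat.prime_two (by norm_num) ?_, hadj 3 Nat.prime_three (by norm_num) ?_, ?_⟩
    · rcases he' with rfl | rfl | rfl | rfl <;> omega
    · rcases he' with rfl | rfl | rfl | rfl <;> omega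
    · by_cases h5 : 5 ∣ c
      · exact Or.inl (hadj 5 (by norm_num) (by norm_num) h5)
      right; left
      obtain ⟨⟨v, hvC⟩, hvo⟩ := exists_prime_orderOf_dvd_card'
        (G := Subgroup.centralizer ((P : Subgroup G) : Set G)) 2
        (by rw [hc]; rcases he' with rfl | rfl | rfl | rfl <;> omega)
      rw [Subgroup.orderOf_mk] at hvo
      set L := (MulAction.toPermHom G (Sylow 11 G)).ker with hL
      have hLmem : ∀ g, g ∈ L ↔ ∀ Q : Sylow 11 G, g • Q = Q := fun g => by
        rw [hL, MonoidHom.mem_ker, Equiv.ext_iff]; rfl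
      have hxfix : ∀ i : ℕ, x ^ i • P = P := fun i =>
        Sylow.smul_eq_iff_mem_normalizer.mpr (Subgroup.le_normalizer (pow_mem hxP i))
      have hvP : v • P = P := Sylow.smul_eq_iff_mem_normalizer.mpr
        (Subgroup.centralizer_le_normalizer _ hvC)
      have hxonly : ∀ (Q : Sylow 11 G) (i : ℕ), ¬ 11 ∣ i → x ^ i • Q = Q → Q = P := by
        intro Q i hi hQ
        have hX : IsPGroup 11 (Subgroup.zpowers x) :=
          IsPGroup.of_card (n := 1) (by rw [Nat.card_zpowers, hx, pow_one])
        have hm : x ^ i ∈ (Q : Subgroup G) := ((le_of_eq (hX.inf_normalizer_sylow Q))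
          ⟨Subgroup.npow_mem_zpowers x i, Sylow.smul_eq_iff_mem_normalizer.mp hQ⟩).2
        obtain ⟨m, hm'⟩ := exists_pow_eq_self_of_coprime (x := x) (n := i)
          (by rw [hx]; exact ((Nat.Prime.coprime_iff_not_dvd (by norm_num)).mpr hi).symm)
        refine Sylow.ext (Subgroup.eq_of_le_of_card_ge ?_ (by rw [card_P P h, card_P Q h])).symm
        rw [← hz, Subgroup.zpowers_le, ← hm']
        exact pow_mem hm m
      have hvL : v ∈ L := by
        rw [hLmem]
        intro Q
        by_cases hQ : Q = P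
        · subst hQ; exact hvP
        haveI := Fintype.ofFinite (Sylow 11 G)
        let φ : Fin 11 → {R : Sylow 11 G // R ≠ P} := fun i => ⟨x ^ i.1 • Q, fun e1 =>
          hQ (MulAction.injective _ (e1.trans (hxfix i).symm))⟩
        have hφ : Function.Bijective φ := by
          rw [Nat.bijective_iff_injective_and_card]
          refine ⟨fun i j e1 => ?_, ?_⟩
          · have e2 : x ^ i.1 • Q = x ^ j.1 • Q := congrArg Subtype.val e1
            by_contra hij
            refine hQ (hxonly Q (11 - j.1 + i.1) ?_ ?_)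
            · have := i.2; have := j.2
              intro hd
              exact hij (Fin.ext (by omega))
            · have h11' : x ^ 11 = 1 := hx ▸ pow_orderOf_eq_one x
              rw [pow_add, mul_smul, e2, ← mul_smul, ← pow_add, Nat.sub_add_cancel j.2.le, h11',
                one_smul]
          · rw [Nat.card_eq_fintype_card, Fintype.card_fin, Nat.card_eq_fintype_card,
              Fintype.card_subtype_compl, Fintype.card_subtype_eq, ← Nat.card_eq_fintype_card, h12]
        obtain ⟨k, hk⟩ := hφ.2 ⟨v • Q, fun e1 => hQ (MulAction.injective _ (e1.trans hvP.symm))⟩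
        have hk' : x ^ k.1 • Q = v • Q := congrArg Subtype.val hk
        have hcv : Commute v x := commute_of_mem P hxP hvC
        have hv2 : v * v = 1 := by rw [← pow_two, ← hvo, pow_orderOf_eq_one]
        have h2k : x ^ (2 * k.1) • Q = Q := by
          rw [two_mul, pow_add, mul_smul, hk', ← mul_smul, ← (hcv.pow_right k.1).eq, mul_smul, hk',
            ← mul_smul, hv2, one_smul]
        by_contra hne
        refine hQ (hxonly Q (2 * k.1) ?_ h2k)
        intro hd
        have : k.1 = 0 := by have := k.2; omega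
        rw [this, pow_zero, one_smul] at hk'
        exact hne hk'.symm
      -- `L` has order dividing `12`
      have hLN : L ≤ Subgroup.normalizer ((P : Subgroup G) : Set G) := fun g hg =>
        Sylow.smul_eq_iff_mem_normalizer.mp ((hLmem g).mp hg P)
      have h11L : ¬ 11 ∣ Nat.card L := by
        intro hd
        obtain ⟨⟨w, hw⟩, hwo⟩ := exists_prime_orderOf_dvd_card' (G := L) 11 hd
        rw [Subgroup.orderOf_mk] at hwo
        have hX : IsPGroup 11 (Subgroup.zpowers w) :=
          IsPGroup.of_card (n := 1) (by rw [Nat.card_zpowers, hwo, pow_one])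
        have hwQ : ∀ Q : Sylow 11 G, (Q : Subgroup G) = Subgroup.zpowers w := fun Q =>
          (Subgroup.eq_of_le_of_card_ge (Subgroup.zpowers_le.mpr
            (((le_of_eq (hX.inf_normalizer_sylow Q)) ⟨Subgroup.mem_zpowers w,
              Sylow.smul_eq_iff_mem_normalizer.mp ((hLmem w).mp hw Q)⟩).2))
            (by rw [card_P Q h, Nat.card_zpowers, hwo])).symm
        haveI : Subsingleton (Sylow 11 G) := ⟨fun a b => Sylow.ext ((hwQ a).trans (hwQ b).symm)⟩
        rw [Nat.card_of_subsingleton P] at h12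
        omega
      have hLC : L ≤ Subgroup.centralizer ((P : Subgroup G) : Set G) := by
        intro g hg
        rw [Subgroup.mem_centralizer_iff]
        intro b hb
        have h1' : g * b * g⁻¹ * b⁻¹ ∈ L := by
          rw [mul_assoc, mul_assoc]
          exact mul_mem hg (by
            rw [← mul_assoc]
            exact (inferInstance : L.Normal).conj_mem _ (inv_mem hg) b)
        have h2' : g * b * g⁻¹ * b⁻¹ ∈ (P : Subgroup G) :=
          mul_mem ((Subgroup.mem_normalizer_iff.mp (hLN hg) b).mp hb) (inv_mem hb)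
        have hinf : L ⊓ (P : Subgroup G) = ⊥ := Subgroup.inf_eq_bot_of_coprime (by
          rw [card_P P h]
          exact ((Nat.Prime.coprime_iff_not_dvd (by norm_num)).mpr h11L).symm)
        have h3 : g * b * g⁻¹ * b⁻¹ = 1 := by rw [← Subgroup.mem_bot, ← hinf]; exact ⟨h1', h2'⟩
        rw [mul_inv_eq_one, mul_inv_eq_iff_eq_mul] at h3
        exact h3.symm
      have hL12 : Nat.card L ∣ 12 := by
        have hd := Subgroup.card_dvd_of_le hLC
        rw [hc] at hd
        have : Nat.card L ∣ 11 * 12 := hd.trans (by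
          have h' : c = 132 ∨ c = 66 := by rcases he' with rfl | rfl | rfl | rfl <;> omega
          rcases h' with rfl | rfl <;> norm_num)
        exact (Nat.Coprime.dvd_of_dvd_mul_left
          ((Nat.Prime.coprime_iff_not_dvd (by norm_num)).mpr h11L).symm this)
      have h2L : 2 ∣ Nat.card L := hvo ▸ Subgroup.orderOf_dvd_natCard L hvL
      obtain ⟨S⟩ := (inferInstance : Nonempty (Sylow 2 L))
      have hsup := Sylow.normalizer_sup_eq_top S
      set T : Subgroup G := (S : Subgroup L).map L.subtype
      have hTc : Nat.card T = Nat.card (S : Subgroup L) :=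
        (Nat.card_congr ((S : Subgroup L).equivMapOfInjective _ L.subtype_injective).toEquiv).symm
      have hT24 : Nat.card T = 2 ∨ Nat.card T = 4 := by
        rw [hTc]
        obtain ⟨k, hk⟩ := IsPGroup.iff_card.mp S.isPGroup'
        have hdk : 2 ^ k ∣ 12 := hk ▸ (Subgroup.card_subgroup_dvd_card _).trans hL12
        have hk0 : k ≠ 0 := by
          rintro rfl
          exact S.ne_bot_of_dvd_card h2L (Subgroup.eq_bot_of_card_eq _ (by rw [hk, pow_zero]))
        have hkle : 2 ^ k ≤ 12 := Nat.le_of_dvd (by norm_num) hdk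
        have : k ≤ 3 := by
          by_contra hlt
          have : 2 ^ 4 ≤ 2 ^ k := Nat.pow_le_pow_right (by norm_num) (by omega)
          omega
        interval_cases k <;> simp_all
      set N := Subgroup.normalizer (T : Set G)
      have h5N : 5 ∣ Nat.card N := by
        have h1' : L.relIndex N = L.index := by
          rw [← Subgroup.relIndex_sup_right (K := L) (H := N), hsup, Subgroup.relIndex_top_right]
        refine dvd_trans ?_ (h1' ▸ Subgroup.relIndex_dvd_card L N)
        have h' := Subgroup.card_mul_index L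
        rw [h] at h'
        have hd : 5 ∣ Nat.card L * L.index := by rw [h']; norm_num
        exact ((by norm_num : Nat.Prime 5).dvd_mul.mp hd).resolve_left fun h5L => by
          have := h5L.trans hL12
          norm_num at this
      obtain ⟨⟨w, hw⟩, hwo⟩ := exists_prime_orderOf_dvd_card' (G := N) 5 h5N
      rw [Subgroup.orderOf_mk] at hwo
      refine adj_of_centralizer (by norm_num) hwo T (centralizes hwo T hw fun d hd hm => ?_)
        (by rcases hT24 with e1 | e1 <;> rw [e1] <;> norm_num)
      rcases hT24 with e1 | e1 <;> rw [e1] at hd hm ⊢ <;> have := Nat.le_of_dvd (by norm_num) hd <;>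
        omega
  · exact absurd h45 (n11_ne_45 h)
  · exact absurd h144 hn

end Eleven

end Cfsg.Agent.Lib.RecogThree.M11.Order7920
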