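import Cfsg.Agent.Lib.RecogThree.M11.Values
import Cfsg.Agent.Lib.Characters.DefectZero
import Cfsg.Agent.Lib.Characters.Kernel
import Cfsg.Agent.Lib.Classif.FirstPowerKills

/-!
The centraliser of an element of order five has order five: a character of degree `16` or `5`
forbids an involution in it.
-/

set_option autoImplicit false
set_option linter.style.haveILetI false
set_option linter.unusedSectionVars false

namespace Cfsg.Agent.Lib.RecogThree.M11.CentY

open Cfsg.Agent.Lib.Characters Cfsg.Agent.Lib.Characters.Basic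
open Cfsg.Agent.Lib.Classif.FirstPowerData (int_dvd_of_isIntegral)
open Cfsg.Agent.Lib.Classif.PrimeExceptional (deg apply_one_eq)
open scoped ComplexConjugate
open Finset

universe u

variable {G : Type u} [Group G] [Finite G] [IsSimpleGroup G]
variable {x y : G}

theorem no_involution (h : Nat.card G = 7920) (hy : orderOf y = 5) {s : G} (hs : orderOf s = 2)
    (hcomm : Commute s y) {u : G} (hu : u * y * u⁻¹ = y⁻¹) (θ : Cfsg.IrrCharacter G)
    (hθ : (deg θ = 16 ∧ (∀ j : ℕ, ¬ 5 ∣ j → ‖(θ : G → ℂ) (y ^ j)‖ ≤ 1) ∧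
        ∃ n : ℕ, (5 : ℂ) * n = 1 + (θ : G → ℂ) y + (θ : G → ℂ) (y ^ 2) + (θ : G → ℂ) (y ^ 3) +
          (θ : G → ℂ) (y ^ 4)) ∨
      (deg θ = 5 ∧ (θ : G → ℂ) x ≠ (θ : G → ℂ) 1)) : False := by
  have hc := isCharacter_irr θ
  have hs1 : s ≠ 1 := fun e => by rw [e, orderOf_one] at hs; omega
  have hy5 : y ^ 5 = 1 := hy ▸ pow_orderOf_eq_one y
  have hs2 : s ^ 2 = 1 := hs ▸ pow_orderOf_eq_one s
  rcases hθ with ⟨hd, hnorm, n, hn⟩ | ⟨hd, hne⟩
  · have hconj : ∀ g : G, u * g * u⁻¹ = g⁻¹ → conj ((θ : G → ℂ) g) = (θ : G → ℂ) g := fun g hg => by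
      rw [← apply_inv hc, ← hg]
      exact isClassFunction_of_isCharacter hc g u
    have hu2 : u * y ^ 2 * u⁻¹ = (y ^ 2)⁻¹ := by rw [← conj_pow, hu, inv_pow]
    have h4 : (θ : G → ℂ) (y ^ 4) = (θ : G → ℂ) y := by
      rw [show y ^ 4 = y⁻¹ from eq_inv_of_mul_eq_one_left (by rw [← pow_succ]; exact hy5),
        apply_inv hc, hconj y hu]
    have h3 : (θ : G → ℂ) (y ^ 3) = (θ : G → ℂ) (y ^ 2) := by
      rw [show y ^ 3 = (y ^ 2)⁻¹ from eq_inv_of_mul_eq_one_left (by rw [← pow_add]; exact hy5),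
        apply_inv hc, hconj _ hu2]
    rw [h3, h4] at hn
    set v := (θ : G → ℂ) y with hv
    set w := (θ : G → ℂ) (y ^ 2) with hw
    have hvn : ‖v‖ ≤ 1 := by simpa [hv] using hnorm 1 (by norm_num)
    have hwn : ‖w‖ ≤ 1 := by simpa [hw] using hnorm 2 (by norm_num)
    have hre : (5 : ℝ) * n = 1 + 2 * v.re + 2 * w.re := by
      have := congrArg Complex.re hn
      simp only [Complex.mul_re, Complex.add_re, Complex.natCast_re, Complex.natCast_im,
        Complex.one_re] at this
      norm_num at this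
      linarith
    have hv1 := (le_abs_self v.re).trans ((Complex.abs_re_le_norm v).trans hvn)
    have hw1 := (le_abs_self w.re).trans ((Complex.abs_re_le_norm w).trans hwn)
    have hn1 : n ≤ 1 := by
      by_contra hlt
      have : (2 : ℝ) ≤ n := by exact_mod_cast (show 2 ≤ n by omega)
      linarith
    interval_cases n
    · have hint : IsIntegral ℤ (((-1 : ℤ) : ℂ) / ((2 : ℕ) : ℂ)) := by
        have : v + w = ((-1 : ℤ) : ℂ) / ((2 : ℕ) : ℂ) := by
          push_cast at hn ⊢
          linear_combination (-1 / 2 : ℂ) * hn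
        rw [← this]
        exact (isIntegral_apply hc _).add (isIntegral_apply hc _)
      have := int_dvd_of_isIntegral two_ne_zero hint
      norm_num at this
    · push_cast at hre
      have hvre : v.re = 1 := by linarith
      have hvim : v.im = 0 := by
        have h1 := Complex.sq_norm v
        rw [Complex.normSq_apply, hvre] at h1
        have h2 : ‖v‖ ^ 2 ≤ 1 := by
          have := norm_nonneg v
          nlinarith
        nlinarith
      have hval : v = 1 := Complex.ext (by simpa using hvre) (by simpa using hvim)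
      have hz : (θ : G → ℂ) (s * y) = 0 := by
        refine DefectZero.apply_eq_zero (n := 4) (r := 495) (e := 1) Nat.prime_two θ
          (by rw [h]; norm_num) (by norm_num) (by rw [apply_one_eq, hd]; norm_num) ?_
        rw [hcomm.orderOf_mul_eq_mul_orderOf_of_coprime (by rw [hs, hy]; norm_num), hs, hy]
        norm_num
      have hint := Classif.FirstPowerData.isIntegral_avg Nat.prime_two θ hs2
        (v := y) (by rw [hy]; norm_num) hcomm
      rw [sum_range_succ, sum_range_one, pow_zero, one_mul, pow_one, hz, ← hv, hval,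
        add_zero] at hint
      have := int_dvd_of_isIntegral two_ne_zero (a := 1) (by rw [Int.cast_one]; exact hint)
      norm_num at this
  · obtain ⟨c, hc', h4, hle⟩ := Classif.FirstPowerData.exists_int_mod_four
      (SmallGroups.Sylow.commutator_eq_top (Local.not_isComm h)) θ (u := s) (by rw [← pow_two, hs2])
    have hzero : ∀ i ∈ range 5, i ≠ 0 → (θ : G → ℂ) (y ^ i * s) = 0 := by
      intro i hi hi0
      refine DefectZero.apply_eq_zero (n := 1) (r := 1584) (e := 1) (p := 5) (by norm_num) θ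
        (by rw [h]; norm_num) (by norm_num) (by rw [apply_one_eq, hd]; norm_num) ?_
      have ho : orderOf (y ^ i) = 5 := by
        rw [orderOf_pow' y hi0, hy, Nat.Coprime.gcd_eq_one ((Nat.Prime.coprime_iff_not_dvd
          (by norm_num)).mpr (fun hd => by
            have := Nat.le_of_dvd (Nat.pos_of_ne_zero hi0) hd
            have := mem_range.mp hi
            omega)), Nat.div_one]
      rw [(hcomm.pow_right i).symm.orderOf_mul_eq_mul_orderOf_of_coprime
        (by rw [ho, hs]; norm_num), ho, hs]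
      norm_num
    have hint := Classif.FirstPowerData.isIntegral_avg (p := 5) (by norm_num) θ hy5 (v := s)
      (by rw [hs]; norm_num) hcomm.symm
    rw [sum_eq_single 0 hzero (fun hn => absurd (mem_range.mpr (by norm_num)) hn),
      pow_zero, one_mul, hc'] at hint
    have h5 := int_dvd_of_isIntegral (by norm_num) hint
    rw [hd] at h4 hle
    obtain ⟨hl1, hl2⟩ := abs_le.mp hle
    have hc5 : c = 5 := by
      obtain ⟨k, rfl⟩ := h5
      push_cast at *
      omega
    have hker : s ∈ Kernel.charKer hc := by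
      rw [Kernel.mem_charKer, hc', hc5, apply_one_eq, hd]
    rw [Kernel.charKer_eq_bot_of_simple hc hne, Subgroup.mem_bot] at hker
    exact hs1 hker

theorem card_centralizer (h : Nat.card G = 7920) (hx : orderOf x = 11) (hy : orderOf y = 5)
    (hyx : y * x * y⁻¹ = x ^ 3) (θ : Cfsg.IrrCharacter G)
    (hθ : (deg θ = 16 ∧ (∀ j : ℕ, ¬ 5 ∣ j → ‖(θ : G → ℂ) (y ^ j)‖ ≤ 1) ∧
        ∃ n : ℕ, (5 : ℂ) * n = 1 + (θ : G → ℂ) y + (θ : G → ℂ) (y ^ 2) + (θ : G → ℂ) (y ^ 3) +
          (θ : G → ℂ) (y ^ 4)) ∨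
      (deg θ = 5 ∧ (θ : G → ℂ) x ≠ (θ : G → ℂ) 1)) :
    Nat.card (Subgroup.centralizer ({y} : Set G)) = 5 := by
  haveI : Fact (Nat.Prime 11) := ⟨by norm_num⟩
  haveI : Fact (Nat.Prime 5) := ⟨by norm_num⟩
  haveI : Fact (Nat.Prime 2) := ⟨Nat.prime_two⟩
  obtain ⟨-, hc, -⟩ := Local5.card_sylow5 hx hy hyx h
  refine hc.resolve_right fun h10 => ?_
  obtain ⟨⟨s, hsC⟩, hs⟩ := exists_prime_orderOf_dvd_card'
    (G := Subgroup.centralizer ({y} : Set G)) 2 (by rw [h10]; norm_num)
  rw [Subgroup.orderOf_mk] at hs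
  obtain ⟨⟨u, hu⟩, -⟩ := Local5.exists_inverting hx hy hyx h
  exact no_involution h hy hs (Subgroup.mem_centralizer_singleton_iff.mp hsC) hu θ hθ

end Cfsg.Agent.Lib.RecogThree.M11.CentY
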