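import Mathlib.Data.Fin.VecNotation
import Mathlib.Logic.Equiv.Defs
import Mathlib.Data.Fintype.Pi
import Mathlib.Logic.Function.Iterate
import Mathlib.Tactic.NormNum

/-!
Kernel-checked search for the extension of `i ↦ i + 1`, `i ↦ 3 i` on twelve points: all candidates
but two produce an element of forbidden order.
-/

set_option autoImplicit false

namespace Cfsg.Agent.Lib.RecogThree.M11.Cert

/-- `i ↦ i + 1` on `ℤ/11`, fixing the twelfth point. -/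
def X : Fin 12 → Fin 12 := ![1, 2, 3, 4, 5, 6, 7, 8, 9, 10, 0, 11]

/-- `i ↦ 3 i` on `ℤ/11`, fixing the twelfth point. -/
def Y : Fin 12 → Fin 12 := ![0, 3, 6, 9, 1, 4, 7, 10, 2, 5, 8, 11]

/-- `i ↦ - i` on `ℤ/11`, fixing the twelfth point. -/
def N : Fin 12 → Fin 12 := ![0, 10, 9, 8, 7, 6, 5, 4, 3, 2, 1, 11]

/-- The map determined by the images of `1` and `2`. -/
def U (c d : Fin 12) : Fin 12 → Fin 12 :=
  ![11, c, d, Y^[2] c, Y^[8] c, Y^[6] c, Y^[2] d, Y^[4] d, Y^[8] d, Y^[4] c, Y^[6] d, 0]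

/-- The five test words. -/
def words (u : Fin 12 → Fin 12) : List (Fin 12 → Fin 12) :=
  [X ∘ u ∘ Y, X ∘ Y ∘ u, X ∘ u, X ∘ u ∘ Y ∘ Y, X ∘ X ∘ u]

/-- An element of forbidden order. -/
def Forbidden (q : Fin 12 → Fin 12) : Prop := q^[144] ≠ id ∧ q^[5] ≠ id ∧ q^[11] ≠ id

instance (q : Fin 12 → Fin 12) : Decidable (Forbidden q) := instDecidableAnd

theorem search : ∀ c d : Fin 12, (c = 1 ∨ c = 2) → (∀ i j, U c d i = U c d j → i = j) →
    (c = 2 ∧ d = 4) ∨ (c = 2 ∧ d = 5) ∨ ∃ q ∈ words (U c d), Forbidden q := by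
  decide +kernel

theorem orbit_one : ∀ a : Fin 12, a ≠ 0 → a ≠ 11 → ∃ k : Fin 5, Y^[k.1] a = 1 ∨ Y^[k.1] a = 2 := by
  decide +kernel

theorem U_table : ∀ i : Fin 12, i = 0 ∨ i = 11 ∨ ∃ k : Fin 5, i = Y^[k.1] 1 ∨ i = Y^[k.1] 2 := by
  decide +kernel

theorem U_eval : ∀ c d : Fin 12, ∀ k : Fin 5,
    U c d (Y^[k.1] 1) = Y^[2 * k.1] c ∧ U c d (Y^[k.1] 2) = Y^[2 * k.1] d := by
  decide +kernel

theorem flip : ∀ i : Fin 12, Y^[3] (N (U 2 5 (N i))) = U 2 4 i ∧ X (N (X (N i))) = i ∧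
    N (Y (N i)) = Y i ∧ N (N i) = i := by
  decide +kernel

theorem fixed : ∀ i : Fin 12, Y i = i → i = 0 ∨ i = 11 := by
  decide +kernel

end Cfsg.Agent.Lib.RecogThree.M11.Cert
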