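import Cfsg.Agent.Lib.Classif.SmallOrderKills3

/-!
Simple groups of order `7920`: the Sylow numbers `144` and `396`, the normalisers of the Sylow
subgroups of orders `11` and `5`.
-/

set_option autoImplicit false
set_option linter.style.haveILetI false
set_option linter.unusedSectionVars false

namespace Cfsg.Agent.Lib.RecogThree.M11.Local

open Cfsg.Agent.Lib.SmallGroups Cfsg.Agent.Lib.Classif.SmallOrderTools
  Cfsg.Agent.Lib.Classif.SmallOrderKills3

variable {G : Type*} [Group G] [Finite G] [IsSimpleGroup G] (h : Nat.card G = 7920)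

include h

theorem not_isComm : ¬ IsMulCommutative G := not_comm h (by norm_num)

theorem card_p11 [Fact (Nat.Prime 11)] (P : Sylow 11 G) : Nat.card (P : Subgroup G) = 11 := by
  rw [Sylow.card_sylow_eq P (a := 1) (m := 720) (by rw [h]; norm_num) (by norm_num), pow_one]

theorem card_p5 [Fact (Nat.Prime 5)] (R : Sylow 5 G) : Nat.card (R : Subgroup G) = 5 := by
  rw [Sylow.card_sylow_eq R (a := 1) (m := 1584) (by rw [h]; norm_num) (by norm_num), pow_one]

theorem not_twelve [Fact (Nat.Prime 11)] (hn : Nat.card (Sylow 11 G) = 12) : False := by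
  obtain ⟨P⟩ := (inferInstance : Nonempty (Sylow 11 G))
  obtain ⟨-, hd⟩ := prime_data (not_isComm h) (p := 11) (m := 720) h (by norm_num) (by norm_num)
    (by norm_num)
  obtain ⟨hP, e, c, he, he1, hc, hC, hN, hce⟩ := hd P
  rw [hn] at hce
  have h2 : c ∈ [66, 132, 330, 660] := by
    have : e = 2 ∨ e = 5 ∨ e = 10 := by
      have := Nat.le_of_dvd (by norm_num) he
      interval_cases e <;> norm_num at *
    rcases this with rfl | rfl | rfl <;> simp <;> omega
  refine false_of_even_centralizer (not_isComm h) (by norm_num) P hP h hn (by norm_num) hC ?_ ?_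
  · simp only [List.mem_cons, List.not_mem_nil, or_false] at h2
    rcases h2 with rfl | rfl | rfl | rfl <;> norm_num
  · simp only [List.mem_cons, List.not_mem_nil, or_false] at h2
    rcases h2 with rfl | rfl | rfl | rfl <;> decide +kernel

theorem not_fortyfive [Fact (Nat.Prime 11)] (hn : Nat.card (Sylow 11 G) = 45) : False := by
  classical
  obtain ⟨P⟩ := (inferInstance : Nonempty (Sylow 11 G))
  obtain ⟨-, hd⟩ := prime_data (not_isComm h) (p := 11) (m := 720) h (by norm_num) (by norm_num)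
    (by norm_num)
  obtain ⟨hP, e, c, he, he1, hc, hC, hN, hce⟩ := hd P
  rw [hn] at hce
  have h8 : 2 ^ 3 ∣ c := by
    have : e = 2 ∨ e = 5 ∨ e = 10 := by
      have := Nat.le_of_dvd (by norm_num) he
      interval_cases e <;> norm_num at *
    rcases this with rfl | rfl | rfl <;> omega
  set C := Subgroup.centralizer ((P : Subgroup G) : Set G) with hCdef
  haveI : Fact (Nat.Prime 2) := ⟨Nat.prime_two⟩
  obtain ⟨T₀, hT₀⟩ := Sylow.exists_subgroup_card_pow_prime 2 (G := C) (hC ▸ h8)
  set T : Subgroup G := T₀.map C.subtype with hT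
  have hTc : Nat.card T = 8 := by
    rw [hT, Nat.card_congr (T₀.equivMapOfInjective _ C.subtype_injective).symm.toEquiv, hT₀]
    norm_num
  have hTC : T ≤ C := Subgroup.map_subtype_le T₀
  have hPfix : ∀ x ∈ C, x • P = P := fun x hx => Sylow.smul_eq_iff_mem_normalizer.mpr
    (Sylow.centralizer_le_normalizer _ hx)
  have hinv : ∀ y ∈ T, orderOf y = 2 → ∀ Q : Sylow 11 G, y • Q = Q → Q = P := by
    intro y hy hy2 Q hQ
    have hy1 : y ≠ 1 := fun e => by rw [e, orderOf_one] at hy2; omega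
    obtain ⟨h1, h2⟩ := fixed_facts (not_isComm h) P hP (hTC hy) hy1 (by omega)
    have h4 := four_dvd_moved (α := Sylow 11 G) (not_isComm h) y
      (by rw [← hy2, pow_orderOf_eq_one])
    rw [hn] at h2 h4
    have hf : Nat.card {R : Sylow 11 G // y • R = R} = 1 := by omega
    haveI := (Nat.card_eq_one_iff_unique.mp hf).1
    exact congrArg Subtype.val (Subsingleton.elim
      (⟨Q, hQ⟩ : {R : Sylow 11 G // y • R = R}) ⟨P, hPfix y (hTC hy)⟩)
  have honly : ∀ y ∈ T, y ≠ 1 → ∀ Q : Sylow 11 G, y • Q = Q → Q = P := by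
    intro y hy hy1 Q hQ
    have hd : orderOf y ∣ 2 ^ 3 := by
      rw [← Subgroup.orderOf_mk y hy, show (2 : ℕ) ^ 3 = Nat.card T by rw [hTc]; norm_num]
      exact orderOf_dvd_natCard _
    obtain ⟨k, -, hk⟩ := (Nat.dvd_prime_pow Nat.prime_two).mp hd
    have hk0 : k ≠ 0 := fun e => hy1 (orderOf_eq_one_iff.mp (by rw [hk, e, pow_zero]))
    have hkk : orderOf (y ^ 2 ^ (k - 1)) = 2 := by
      rw [orderOf_pow' y (pow_ne_zero _ two_ne_zero), hk,
        Nat.gcd_eq_right (pow_dvd_pow 2 (by omega)), Nat.pow_div (by omega) two_pos,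
        show k - (k - 1) = 1 by omega, pow_one]
    refine hinv _ (pow_mem hy _) hkk Q ?_
    generalize 2 ^ (k - 1) = j
    induction j with
    | zero => simp
    | succ j ih => rw [pow_succ, mul_smul, hQ, ih]
  -- `T` is semiregular on the 44 other Sylow subgroups
  let β := {Q : Sylow 11 G // Q ≠ P}
  letI : MulAction T β :=
    { smul := fun y Q => ⟨(y : G) • Q.1, fun he =>
        Q.2 (MulAction.injective (y : G) (he.trans (hPfix y (hTC y.2)).symm))⟩
      one_smul := fun Q => Subtype.ext (one_smul G Q.1)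
      mul_smul := fun a b Q => Subtype.ext (mul_smul (a : G) (b : G) Q.1) }
  have hfree : ∀ Q : β, MulAction.stabilizer T Q = ⊥ := by
    intro Q
    rw [Subgroup.eq_bot_iff_forall]
    intro y hy
    by_contra hne
    exact Q.2 (honly y y.2 (fun he => hne (Subtype.ext he)) Q.1
      (congrArg Subtype.val (MulAction.mem_stabilizer_iff.mp hy)))
  haveI := Fintype.ofFinite (Sylow 11 G)
  haveI : Fintype (MulAction.orbitRel.Quotient T β) := @Fintype.ofFinite _ (Quotient.finite _)
  have hβ : Nat.card β = 44 := by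
    rw [Nat.card_eq_fintype_card, Fintype.card_subtype_compl, Fintype.card_subtype_eq,
      ← Nat.card_eq_fintype_card, hn]
  have hdvd : 8 ∣ Nat.card β := by
    rw [Nat.card_congr (MulAction.selfEquivSigmaOrbits' T β), Nat.card_sigma]
    refine Finset.dvd_sum fun ω _ => ?_
    rw [MulAction.orbitRel.Quotient.orbit_eq_orbit_out ω Quotient.out_eq, Nat.card_coe_set_eq,
      ← MulAction.index_stabilizer, hfree, Subgroup.index_bot, hTc]
  rw [hβ] at hdvd
  omega

theorem card_sylow11 [Fact (Nat.Prime 11)] : Nat.card (Sylow 11 G) = 144 := by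
  have h1 : Nat.card G = 11 ^ 1 * 720 := by rw [h]; norm_num
  have hd := Sylow.card_sylow_dvd (p := 11) h1 (by norm_num)
  have hm := Sylow.card_sylow_mod (G := G) (p := 11)
  have hne := Sylow.card_sylow_ne_one (p := 11) h1 (by norm_num) one_ne_zero (by norm_num)
  have h12 := not_twelve h
  have h45 := not_fortyfive h
  have hle := Nat.le_of_dvd (by norm_num) hd
  generalize Nat.card (Sylow 11 G) = n at *
  obtain ⟨j, rfl⟩ : ∃ j, n = 11 * j + 1 := ⟨n / 11, by omega⟩
  have hj : j < 66 := by omega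
  interval_cases j <;> simp at * <;> norm_num at hd

theorem p11_data [Fact (Nat.Prime 11)] (P : Sylow 11 G) :
    Subgroup.centralizer ((P : Subgroup G) : Set G) = (P : Subgroup G) ∧
      Nat.card (Subgroup.normalizer ((P : Subgroup G) : Set G)) = 5 * 11 := by
  obtain ⟨-, hd⟩ := prime_data (not_isComm h) (p := 11) (m := 720) h (by norm_num) (by norm_num)
    (by norm_num)
  obtain ⟨hP, e, c, he, he1, hc, hC, hN, hce⟩ := hd P
  rw [card_sylow11 h] at hce
  have h55 : c * e = 55 := by omega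
  have he5 : e = 5 := by
    have h10 := Nat.le_of_dvd (by norm_num) he
    interval_cases e <;> norm_num at * <;> omega
  subst he5
  have hc11 : c = 11 := by omega
  subst hc11
  refine ⟨(Subgroup.eq_of_le_of_card_ge ?_ (by rw [hC, hP])).symm, by rw [hN]⟩
  intro x hx
  rw [Subgroup.mem_centralizer_iff]
  intro y hy
  haveI := isCyclic_of_prime_card hP
  exact congrArg Subtype.val
    ((IsCyclic.commGroup (α := (P : Subgroup G))).mul_comm ⟨y, hy⟩ ⟨x, hx⟩)

/-- A generator `x` of `P` and an element `y` of order five of `N(P)` with `y x y⁻¹ = x ^ 3`. -/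
theorem exists_xy [Fact (Nat.Prime 11)] (P : Sylow 11 G) :
    ∃ x y : G, orderOf x = 11 ∧ orderOf y = 5 ∧ y * x * y⁻¹ = x ^ 3 ∧
      Subgroup.zpowers x = (P : Subgroup G) := by
  obtain ⟨hC, hN⟩ := p11_data h P
  have hP := card_p11 h P
  obtain ⟨⟨x, hxP⟩, hx⟩ := exists_prime_orderOf_dvd_card' (G := (P : Subgroup G)) 11 (by rw [hP])
  rw [Subgroup.orderOf_mk] at hx
  have hz : Subgroup.zpowers x = (P : Subgroup G) :=
    Subgroup.eq_of_le_of_card_ge (Subgroup.zpowers_le.mpr hxP)
      (by rw [Nat.card_zpowers, hx, hP])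
  haveI : Fact (Nat.Prime 5) := ⟨by norm_num⟩
  obtain ⟨⟨w, hw⟩, hwo⟩ := exists_prime_orderOf_dvd_card'
    (G := Subgroup.normalizer ((P : Subgroup G) : Set G)) 5 (by rw [hN]; norm_num)
  rw [Subgroup.orderOf_mk] at hwo
  have hwx : w * x * w⁻¹ ∈ Subgroup.zpowers x := by
    rw [hz]; exact (Subgroup.mem_normalizer_iff.mp hw x).mp hxP
  obtain ⟨r, hr, hr'⟩ := exists_pow_of_zpowers hx hwx
  have hpow : ∀ j, w ^ j * x * (w ^ j)⁻¹ = x ^ r ^ j := by
    intro j
    induction j with
    | zero => simp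
    | succ j ih =>
      calc w ^ (j + 1) * x * (w ^ (j + 1))⁻¹ = w * (w ^ j * x * (w ^ j)⁻¹) * w⁻¹ := by
            rw [pow_succ']; group
        _ = (w * x * w⁻¹) ^ r ^ j := by rw [ih, conj_pow]
        _ = x ^ r ^ (j + 1) := by rw [hr', ← pow_mul, pow_succ']
  have h5 : r ^ 5 % 11 = 1 := by
    have := hpow 5
    rw [← hwo, pow_orderOf_eq_one, one_mul, inv_one, mul_one, hwo] at this
    have h' : x ^ 1 = x ^ r ^ 5 := by rw [pow_one]; exact this
    rw [pow_eq_pow_iff_modEq, hx] at h'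
    exact h'.symm
  have hr1 : r ≠ 1 := by
    rintro rfl
    rw [pow_one] at hr'
    have hwP : w ∈ (P : Subgroup G) := by
      rw [← hC, Subgroup.mem_centralizer_iff]
      intro a ha
      rw [SetLike.mem_coe, ← hz] at ha
      obtain ⟨j, rfl⟩ := Subgroup.mem_zpowers_iff.mp ha
      exact (Commute.zpow_left (show Commute x w from (mul_inv_eq_iff_eq_mul.mp hr').symm) j).eq
    have := Subgroup.orderOf_dvd_natCard _ hwP
    rw [hwo, hP] at this
    norm_num at this
  obtain ⟨j, hj5, hj⟩ : ∃ j, 0 < j ∧ j < 5 ∧ r ^ j % 11 = 3 := by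
    have key : ∀ r : Fin 11, r.1 ^ 5 % 11 = 1 → r.1 ≠ 1 →
        ∃ j : Fin 5, 0 < j.1 ∧ r.1 ^ j.1 % 11 = 3 := by decide +kernel
    obtain ⟨j, h0, hj⟩ := key ⟨r, hr⟩ h5 hr1
    exact ⟨j.1, h0, j.2, hj⟩
  refine ⟨x, w ^ j, hx, ?_, ?_, hz⟩
  · rw [orderOf_pow' w (by omega), hwo,
      Nat.Coprime.gcd_eq_one ((Nat.Prime.coprime_iff_not_dvd (by norm_num)).mpr
        (Nat.not_dvd_of_pos_of_lt hj5 hj.1)), Nat.div_one]
  · rw [hpow, ← hj.2]
    rw [pow_mod_orderOf x (r ^ j) |>.symm, hx]
where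
  exists_pow_of_zpowers {x a : G} (hx : orderOf x = 11) (ha : a ∈ Subgroup.zpowers x) :
      ∃ r < 11, a = x ^ r := by
    classical
    rw [mem_zpowers_iff_mem_range_orderOf, Finset.mem_image] at ha
    obtain ⟨r, hr, rfl⟩ := ha
    exact ⟨r, by rw [Finset.mem_range, hx] at hr; exact hr, rfl⟩

end Cfsg.Agent.Lib.RecogThree.M11.Local
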