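import Cfsg.Agent.Lib.RecogThree.M11.Order7920
import Cfsg.Agent.Lib.Classif.OrderSieve
import Cfsg.Agent.Lib.RecogThree.M11.Local

/-!
The numbers of elements of given order in `M₁₁` single out the number of Sylow `11`-subgroups.
-/

set_option autoImplicit false
set_option linter.style.haveILetI false
set_option linter.unusedSectionVars false

namespace Cfsg.Agent.Lib.RecogThree.M11.Counts

universe u

variable {G : Type u} [Group G] [Finite G]

/-- With a self-centralising element of order `11`, the number of elements of any other order is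
`1` or a multiple of `11`. -/
theorem count_mod {x : G} (hx : orderOf x = 11) (hC : ∀ v : G, v * x = x * v → v ∈ Subgroup.zpowers x)
    (n : ℕ) (h1 : n ≠ 1) (h11 : n ≠ 11) : 11 ∣ Nat.card {g : G // orderOf g = n} := by
  haveI : Fact (Nat.Prime 11) := ⟨by norm_num⟩
  have hX : IsPGroup 11 (Subgroup.zpowers x) :=
    IsPGroup.of_card (n := 1) (by rw [Nat.card_zpowers, hx, pow_one])
  have hord : ∀ (u g : G), orderOf g = n → orderOf (u * g * u⁻¹) = n := fun u g hg => by
    rw [← hg]; exact (MulAut.conj u).orderOf_eq g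
  letI : MulAction (Subgroup.zpowers x) {g : G // orderOf g = n} :=
  { smul := fun u g => ⟨(u : G) * g.1 * (u : G)⁻¹, hord _ _ g.2⟩
    one_smul := fun g => Subtype.ext (show (1 : G) * g.1 * (1 : G)⁻¹ = g.1 by group)
    mul_smul := fun u v g => Subtype.ext (show ((u * v : Subgroup.zpowers x) : G) * g.1 *
        ((u * v : Subgroup.zpowers x) : G)⁻¹ = (u : G) * ((v : G) * g.1 * (v : G)⁻¹) * (u : G)⁻¹ by
      rw [Subgroup.coe_mul]; group) }
  have hempty : IsEmpty (MulAction.fixedPoints (Subgroup.zpowers x) {g : G // orderOf g = n}) := by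
    refine ⟨fun g => ?_⟩
    have e : x * g.1.1 * x⁻¹ = g.1.1 := congrArg Subtype.val (g.2 ⟨x, Subgroup.mem_zpowers x⟩)
    have hd := orderOf_dvd_of_mem_zpowers (hC g.1.1 (mul_inv_eq_iff_eq_mul.mp e).symm)
    rw [g.1.2, hx] at hd
    rcases (Nat.dvd_prime (by norm_num)).mp hd with e' | e'
    · exact h1 e'
    · exact h11 e'
  have hmod := hX.card_modEq_card_fixedPoints {g : G // orderOf g = n}
  rw [Nat.card_of_isEmpty (α := MulAction.fixedPoints (Subgroup.zpowers x)
    {g : G // orderOf g = n})] at hmod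
  exact Nat.modEq_zero_iff_dvd.mp hmod

theorem card_orderOf_eleven (h : Nat.card G = 7920) [Fact (Nat.Prime 11)] :
    Nat.card {g : G // orderOf g = 11} = Nat.card (Sylow 11 G) * 10 :=
  Classif.OrderSieve.card_orderOf_of_entry (m := 720) Fact.out (by rw [h]; norm_num) (by norm_num)

theorem n11_eq_144 (h : Nat.card G = 7920) {M : Type*} [Group M] [Finite M]
    (hM : Nat.card M = 7920) {x : M} (hx : orderOf x = 11)
    (hC : ∀ v : M, v * x = x * v → v ∈ Subgroup.zpowers x)
    (hset : {c : ℕ | 0 < c ∧ ∃ n : ℕ, c = Nat.card {g : G // orderOf g = n}} =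
      {c : ℕ | 0 < c ∧ ∃ n : ℕ, c = Nat.card {g : M // orderOf g = n}})
    [Fact (Nat.Prime 11)] : Nat.card (Sylow 11 G) = 144 := by
  haveI : IsSimpleGroup M := Spectrum.CommM11.isSimpleGroup hM hx hC
  have hM144 : Nat.card (Sylow 11 M) = 144 := Local.card_sylow11 hM
  have hmem : Nat.card (Sylow 11 G) * 10 ∈
      {c : ℕ | 0 < c ∧ ∃ n : ℕ, c = Nat.card {g : G // orderOf g = n}} :=
    ⟨Nat.mul_pos Nat.card_pos (by norm_num), 11, (card_orderOf_eleven h).symm⟩
  rw [hset] at hmem
  obtain ⟨-, n, hn⟩ := hmem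
  have hcases := Order7920.n11_cases h
  by_cases h1 : n = 1
  · subst h1
    have : Nat.card {g : M // orderOf g = 1} = 1 :=
      Nat.card_eq_one_iff_unique.mpr ⟨⟨fun a b => Subtype.ext
        ((orderOf_eq_one_iff.mp a.2).trans (orderOf_eq_one_iff.mp b.2).symm)⟩, ⟨⟨1, orderOf_one⟩⟩⟩
    omega
  by_cases h11 : n = 11
  · subst h11
    rw [card_orderOf_eleven hM, hM144] at hn
    omega
  have hd := count_mod hx hC n h1 h11
  rw [← hn] at hd
  rcases hcases with e | e | e | e <;> rw [e] at hd <;> first | exact e | (norm_num at hd)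

end Cfsg.Agent.Lib.RecogThree.M11.Counts
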