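import Cfsg.Agent.Lib.RecogThree.M11.CentY

/-!
The degrees of the irreducible characters of a simple group of order `7920` and their values at
an element of order five.
-/

set_option autoImplicit false
set_option linter.style.haveILetI false
set_option linter.unusedSectionVars false

namespace Cfsg.Agent.Lib.RecogThree.M11.Degrees

open Cfsg.Agent.Lib.Characters Cfsg.Agent.Lib.Characters.Basic
open Cfsg.Agent.Lib.Classif
open Cfsg.Agent.Lib.Classif.PrimeExceptional (deg apply_one_eq)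
open scoped ComplexConjugate
open Finset

universe u

/-- The signed degree attached to a code. -/
def code : Fin 3 → ℤ := fun i => if i = 0 then -10 else if i = 1 then 12 else 45

theorem combos : ∀ f : Fin 4 → Fin 3,
    (11 : ℤ) ∣ (1 + ∑ i, code (f i)) - 5 → (1 + ∑ i, code (f i)).natAbs ∣ 7920 →
    1 + ∑ i, code (f i) ^ 2 + 2 * (1 + ∑ i, code (f i)) ^ 2 ≤ 7920 →
    ((1 + ∑ i, code (f i)) = 16 ∧ ∃ i, f i = 2 ∧ ∀ j, j ≠ i → f j = 0) ∨
      ((1 + ∑ i, code (f i)) = 5 ∧ ∃ i j, i ≠ j ∧ f i = 1 ∧ f j = 1) := by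
  decide +kernel

theorem signed_cases (c : ℤ) (h1 : (11 : ℤ) ∣ c - 1) (h2 : 2 ≤ c.natAbs) (hd : c.natAbs ∣ 7920)
    (hsq : c ^ 2 ≤ 7920) : ∃ i, c = code i := by
  obtain ⟨k, hk⟩ := h1
  have hb : -8 ≤ k ∧ k ≤ 8 := by constructor <;> nlinarith
  obtain ⟨hb1, hb2⟩ := hb
  obtain rfl : c = 11 * k + 1 := by omega
  interval_cases k <;> first
    | exact ⟨0, rfl⟩
    | exact ⟨1, rfl⟩
    | exact ⟨2, rfl⟩
    | (exfalso; revert h2 hd; decide +kernel)

/-- The numerics of the block of the remaining characters. -/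
theorem others {ι : Type*} [DecidableEq ι] (O : Finset ι) (m : ι → ℕ) (v : ι → ℤ)
    (hm : ∀ i ∈ O, 0 < m i) (hcong : ∀ i ∈ O, (5 : ℤ) ∣ m i + 4 * v i)
    (hbound : ∀ i ∈ O, |v i| ≤ m i) (hv : ∑ i ∈ O, v i ^ 2 = 2) (hsum : ∑ i ∈ O, m i ^ 2 = 42) :
    ∃ a b c : ι, a ≠ b ∧ a ≠ c ∧ b ≠ c ∧ O = {a, b, c} ∧ m a = 1 ∧ v a = 1 ∧ m b = 4 ∧
      v b = -1 ∧ m c = 5 ∧ v c = 0 := by
  classical
  set O₁ := O.filter fun i => v i ≠ 0 with hO₁
  set O₀ := O.filter fun i => ¬ v i ≠ 0 with hO₀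
  have hsplit : ∀ f : ι → ℕ, ∑ i ∈ O₁, f i + ∑ i ∈ O₀, f i = ∑ i ∈ O, f i := fun f =>
    sum_filter_add_sum_filter_not O _ f
  have hv1 : ∀ i ∈ O₁, v i = 1 ∨ v i = -1 := by
    intro i hi
    obtain ⟨hiO, hne⟩ := mem_filter.mp hi
    have hle : v i ^ 2 ≤ 2 := hv ▸ single_le_sum (fun j _ => sq_nonneg (v j)) hiO
    have : -1 ≤ v i ∧ v i ≤ 1 := by constructor <;> nlinarith
    omega
  have hc2 : O₁.card = 2 := by
    have h1 : ∑ i ∈ O₁, v i ^ 2 = 2 := by
      rw [hO₁, ← hv, sum_filter_of_ne]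
      intro i _ hne he
      exact hne (by rw [he]; norm_num)
    rw [sum_congr rfl fun i hi => show v i ^ 2 = 1 by rcases hv1 i hi with e | e <;> rw [e] <;> norm_num,
      sum_const, nsmul_one] at h1
    exact_mod_cast h1
  have h0dvd : ∀ i ∈ O₀, 5 ∣ m i := by
    intro i hi
    obtain ⟨hiO, hne⟩ := mem_filter.mp hi
    have h := hcong i hiO
    rw [not_not.mp hne, mul_zero, add_zero] at h
    exact_mod_cast h
  have h25 : 25 ∣ ∑ i ∈ O₀, m i ^ 2 := by
    refine dvd_sum fun i hi => ?_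
    obtain ⟨k, hk⟩ := h0dvd i hi
    exact ⟨k ^ 2, by rw [hk]; ring⟩
  obtain ⟨a, b, hab, he⟩ := card_eq_two.mp hc2
  have haO : a ∈ O₁ := by rw [he]; simp
  have hbO : b ∈ O₁ := by rw [he]; simp
  have htot := hsplit fun i => m i ^ 2
  rw [he, sum_pair hab, hsum] at htot
  have hm' : ∀ i ∈ O₁, m i ≤ 6 ∧ ((m i : ℤ) % 5 = v i % 5) := by
    intro i hi
    refine ⟨?_, ?_⟩
    · have : m i ^ 2 ≤ 42 := hsum ▸ single_le_sum (fun j _ => Nat.zero_le (m j ^ 2)) (mem_filter.mp hi).1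
      nlinarith
    · have := hcong i (mem_filter.mp hi).1
      omega
  have key : ∀ p q : Fin 7, 0 < p.1 → 0 < q.1 → p.1 ≤ q.1 → (p.1 % 5 = 1 ∨ p.1 % 5 = 4) →
      (q.1 % 5 = 1 ∨ q.1 % 5 = 4) → p.1 ^ 2 + q.1 ^ 2 ≤ 42 → 25 ∣ 42 - (p.1 ^ 2 + q.1 ^ 2) →
      p.1 = 1 ∧ q.1 = 4 := by decide +kernel
  have hmab : ∃ a' b', ({a', b'} : Finset ι) = O₁ ∧ a' ≠ b' ∧ m a' = 1 ∧ m b' = 4 := by
    have hmod : ∀ i ∈ O₁, m i % 5 = 1 ∨ m i % 5 = 4 := fun i hi => by
      have := (hm' i hi).2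
      rcases hv1 i hi with e | e <;> rw [e] at this <;> omega
    have hdv : 25 ∣ 42 - (m a ^ 2 + m b ^ 2) := by
      rwa [← htot, Nat.add_sub_cancel_left]
    have hla := (hm' a haO).1
    have hlb := (hm' b hbO).1
    have hpa := hm a (mem_filter.mp haO).1
    have hpb := hm b (mem_filter.mp hbO).1
    rcases le_total (m a) (m b) with hle | hle
    · obtain ⟨e1, e2⟩ := key ⟨m a, by omega⟩ ⟨m b, by omega⟩ hpa hpb hle (hmod a haO) (hmod b hbO)
        (by simp only; omega) hdv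
      exact ⟨a, b, he.symm, hab, e1, e2⟩
    · obtain ⟨e1, e2⟩ := key ⟨m b, by omega⟩ ⟨m a, by omega⟩ hpb hpa hle (hmod b hbO) (hmod a haO)
        (by simp only; omega) (by rwa [add_comm (m a ^ 2)] at hdv)
      exact ⟨b, a, by rw [he, pair_comm], hab.symm, e1, e2⟩
  obtain ⟨a', b', he', hab', hma, hmb⟩ := hmab
  have htot' := hsplit fun i => m i ^ 2
  rw [← he', sum_pair hab', hsum, hma, hmb] at htot'
  have hrest : ∑ i ∈ O₀, m i ^ 2 = 25 := by omega
  have h0le : ∀ i ∈ O₀, m i = 5 := by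
    intro i hi
    obtain ⟨k, hk⟩ := h0dvd i hi
    have hk0 := hm i (mem_filter.mp hi).1
    have : m i ^ 2 ≤ 25 := hrest ▸ single_le_sum (fun j _ => Nat.zero_le (m j ^ 2)) hi
    have : m i ≤ 5 := by nlinarith
    omega
  rw [sum_congr rfl fun i hi => by rw [h0le i hi], sum_const, smul_eq_mul] at hrest
  obtain ⟨c, hc⟩ := card_eq_one.mp (show O₀.card = 1 by omega)
  have haa : a' ∈ O₁ := by rw [← he']; simp
  have hbb : b' ∈ O₁ := by rw [← he']; simp
  have hcc : c ∈ O₀ := by rw [hc]; simp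
  refine ⟨a', b', c, hab', ?_, ?_, ?_, hma, ?_, hmb, ?_, h0le c hcc,
    not_not.mp (mem_filter.mp hcc).2⟩
  · rintro rfl; exact (mem_filter.mp hcc).2 (mem_filter.mp haa).2
  · rintro rfl; exact (mem_filter.mp hcc).2 (mem_filter.mp hbb).2
  · rw [← filter_union_filter_not_eq (fun i => v i ≠ 0) O, ← hO₁, ← hO₀, ← he', hc]
    ext i; simp [or_assoc]
  · have := (hm' a' haa).2; rcases hv1 a' haa with e | e
    · exact e
    · rw [e, hma] at this; norm_num at this
  · have := (hm' b' hbb).2; rcases hv1 b' hbb with e | e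
    · rw [e, hmb] at this; norm_num at this
    · exact e

variable {G : Type u} [Group G] [Finite G] [IsSimpleGroup G]

/-- The characters of a simple group of order `7920` seen from elements `x`, `y`. -/
structure Table (x y : G) where
  θ₁ : Cfsg.IrrCharacter G
  θ₂ : Cfsg.IrrCharacter G
  A : Cfsg.IrrCharacter G
  B : Cfsg.IrrCharacter G
  θ_ne : θ₁ ≠ θ₂
  deg_θ₁ : deg θ₁ = 16
  deg_θ₂ : deg θ₂ = 16
  deg_A : deg A = 11
  deg_B : deg B = 44
  y_θ₁ : (θ₁ : G → ℂ) y = 1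
  y_θ₂ : (θ₂ : G → ℂ) y = 1
  y_A : (A : G → ℂ) y = 1
  y_B : (B : G → ℂ) y = -1
  y_others : ∀ χ : Cfsg.IrrCharacter G, χ ≠ oneChar G → χ ≠ θ₁ → χ ≠ θ₂ → χ ≠ A → χ ≠ B →
    (χ : G → ℂ) y = 0
  A_fixed : ∑ i ∈ range 11, (A : G → ℂ) (x ^ i) = 11
  cent_y : Nat.card (Subgroup.centralizer ({y} : Set G)) = 5
  rational : ∀ (χ : Cfsg.IrrCharacter G) (j : ℕ), ¬ 5 ∣ j → (χ : G → ℂ) (y ^ j) = (χ : G → ℂ) y
  degs : ∀ [Fintype (Cfsg.IrrCharacter G)],
    (univ : Finset (Cfsg.IrrCharacter G)).val.map (fun χ => deg χ) =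
      ({1, 45, 10, 10, 10, 16, 16, 11, 44, 55} : Multiset ℤ)

set_option maxHeartbeats 1600000 in
theorem exists_table (h : Nat.card G = 7920) {x y : G} (hx : orderOf x = 11) (hy : orderOf y = 5)
    (hyx : y * x * y⁻¹ = x ^ 3) : Nonempty (Table x y) := by
  classical
  haveI : Fintype G := Fintype.ofFinite G
  letI : Fintype (Cfsg.IrrCharacter G) := Fintype.ofFinite _
  haveI : Fact (Nat.Prime 11) := ⟨by norm_num⟩
  haveI : Fact (Nat.Prime 5) := ⟨by norm_num⟩
  obtain ⟨P, hPx⟩ := Local5.exists_sylow11 hx h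
  obtain ⟨hC, hN⟩ := Local.p11_data h P
  have hP := Local.card_p11 h P
  have hperf := SmallGroups.Sylow.commutator_eq_top (Local.not_isComm h)
  have hrel : (Subgroup.centralizer ((P : Subgroup G) : Set G)).relIndex
      (Subgroup.normalizer ((P : Subgroup G) : Set G)) = 5 := by
    have h' := SmallGroups.Sylow.card_centralizer_mul_relIndex (P : Subgroup G)
    rw [hN, show Nat.card (Subgroup.centralizer ((P : Subgroup G) : Set G)) = 11 by
      rw [hC, hP]] at h'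
    omega
  obtain ⟨D⟩ := FirstPowerData.exists_data P hP hrel
  have hK : D.K.card = 4 := by have := D.card_K; omega
  have hfam : D.fam.card = 2 := by have := D.fam_card; omega
  choose m s S hs hS hms hdS hnorm hn using fun χ => Values.at_x hx hy hyx χ
  have hxP : x ∈ (P : Subgroup G) := hPx ▸ Subgroup.mem_zpowers x
  have hx1 : x ≠ 1 := fun e => by rw [e, orderOf_one] at hx; omega
  -- values on `K`
  have hKx : ∀ χ ∈ D.K, (χ : G → ℂ) x = (D.a χ : ℂ) := fun χ hχ => by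
    simpa using D.value χ hχ x hxP hx1 1 (one_mem _) (by rw [orderOf_one]; norm_num)
  have hKc : ∀ χ ∈ D.K, ∃ i, D.a χ * deg χ = code i := fun χ hχ => by
    obtain ⟨h1, h2, h3, h4⟩ := FirstPowerKills.signed_facts hperf hP D hχ
    refine signed_cases _ h1 h2 (h ▸ h3) ?_
    rw [h4, show (7920 : ℤ) = (Nat.card G : ℤ) by rw [h]; norm_num]
    calc deg χ ^ 2 ≤ ∑ ψ ∈ D.K, deg ψ ^ 2 := single_le_sum (fun ψ _ => sq_nonneg (deg ψ)) hχ
      _ ≤ _ := by
        have := D.square_sum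
        have : 0 ≤ (D.fam.card : ℤ) * deg D.θ ^ 2 := mul_nonneg (Int.natCast_nonneg _) (sq_nonneg _)
        linarith
  choose! f hf using hKc
  let e : Fin 4 ≃ {χ // χ ∈ D.K} := (D.K.equivFinOfCardEq hK).symm
  have hsumK : ∀ g : Cfsg.IrrCharacter G → ℤ, ∑ i, g (e i) = ∑ χ ∈ D.K, g χ := fun g => by
    rw [← sum_coe_sort D.K g]
    exact e.sum_comp fun χ : {χ // χ ∈ D.K} => g χ
  have hT : 1 + ∑ i, code (f (e i)) = D.δ * deg D.θ := by
    rw [hsumK (fun χ => code (f χ)), ← D.degree_eq]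
    exact congrArg (fun z => 1 + z) (sum_congr rfl fun χ hχ => (hf χ hχ).symm)
  obtain ⟨hθd, hθ2, hθ3, hθ4⟩ := FirstPowerKills.theta_facts hperf D
    (S := ∑ i, code (f (e i))) (by
      rw [hsumK (fun χ => code (f χ))]; exact sum_congr rfl fun χ hχ => hf χ hχ)
  have hcong := D.θ_cong hP
  rw [← hT] at hcong
  have hsq := D.square_sum
  rw [hfam, h, hθ4,
    show ∑ χ ∈ D.K, deg χ ^ 2 = ∑ i, code (f (e i)) ^ 2 by
      rw [hsumK (fun χ => code (f χ) ^ 2)]
      refine sum_congr rfl fun χ hχ => ?_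
      rw [← (FirstPowerKills.signed_facts hperf hP D hχ).2.2.2, hf χ hχ]] at hsq
  push_cast at hcong hsq
  have hcases := combos (fun i => f (e i)) hcong (h ▸ hθ3) hsq
  -- the exceptional family at `x`
  have hTpos : D.δ = 1 ∧ deg D.θ = 1 + ∑ i, code (f (e i)) ∧ deg D.θ ^ 2 % 11 = 3 ∧
      deg D.θ % 11 = 5 := by
    rcases hcases with ⟨e1, -⟩ | ⟨e1, -⟩ <;> rw [e1] at hT hθd ⊢ <;> simp at hθd <;>
      rw [hθd] at hT ⊢ <;> rcases D.δ_unit with e2 | e2 <;> rw [e2] at hT ⊢ <;> norm_num at hT <;> norm_num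
  obtain ⟨hδ, hθT, hθ11, hθ5⟩ := hTpos
  have hfamd : ∀ θ' ∈ D.fam, deg θ' = deg D.θ ∧ 3 ≤ S θ' := fun θ' hθ' => by
    refine ⟨D.fam_deg θ' hθ', ?_⟩
    have := hdS θ'
    rw [D.fam_deg θ' hθ'] at this
    omega
  set O := univ \ insert (oneChar G) (D.K ∪ D.fam) with hO
  have hsplit : ∀ {M : Type} [AddCommMonoid M] (g : Cfsg.IrrCharacter G → M),
      ∑ χ, g χ = g (oneChar G) + (∑ χ ∈ D.K, g χ + ∑ χ ∈ D.fam, g χ) + ∑ χ ∈ O, g χ := by
    intro M _ g
    rw [← sum_union D.fam_disj, ← sum_insert (by simp [D.one_not_mem, D.fam_one]), hO, add_comm,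
      sum_sdiff (subset_univ _)]
  have hcx : Nat.card (Subgroup.centralizer ({x} : Set G)) = 11 := by
    rw [← Subgroup.centralizer_closure, ← Subgroup.zpowers_eq_closure, ← hPx, hC, hP]
  have hcolx : ∑ χ, S χ = 11 := by
    have h' := Complete.sum_irr_mul_conj x x
    rw [if_pos (IsConj.refl x), hcx, sum_congr rfl fun χ _ => by
      rw [Complex.mul_conj, hS χ]] at h'
    exact_mod_cast h'
  have hS1 : S (oneChar G) = 1 := by
    have := hS (oneChar G)
    rw [oneChar_apply, map_one] at this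
    exact_mod_cast this.symm
  have hSK : ∀ χ ∈ D.K, S χ = 1 := fun χ hχ => by
    have := hS χ
    rw [hKx χ hχ] at this
    rcases D.a_unit χ hχ with e1 | e1 <;> rw [e1] at this <;> simp at this <;>
      exact_mod_cast this.symm
  have hsums := hsplit S
  rw [hcolx, hS1, sum_congr rfl hSK, sum_const, hK, smul_eq_mul] at hsums
  have hfam6 : 6 ≤ ∑ χ ∈ D.fam, S χ := by
    have := card_nsmul_le_sum D.fam S 3 fun θ' hθ' => (hfamd θ' hθ').2
    rw [hfam, smul_eq_mul] at this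
    exact this
  have hO0 : ∀ χ ∈ O, S χ = 0 := fun χ hχ => by
    have := single_le_sum (fun j _ => Nat.zero_le (S j)) hχ
    omega
  have hfam3 : ∀ θ' ∈ D.fam, S θ' = 3 := fun θ' hθ' => by
    have h1 := card_nsmul_le_sum (D.fam.erase θ') S 3 fun ψ hψ => (hfamd ψ (mem_of_mem_erase hψ)).2
    rw [card_erase_of_mem hθ', hfam, smul_eq_mul] at h1
    have h2 : S θ' + ∑ ψ ∈ D.fam.erase θ', S ψ = ∑ ψ ∈ D.fam, S ψ := add_sum_erase D.fam S hθ'
    replace h1 : (2 - 1) * 3 ≤ ∑ ψ ∈ D.fam.erase θ', S ψ := h1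
    have := (hfamd θ' hθ').2
    omega
  have hsb : ∀ χ, s χ ^ 2 ≤ 4 * (S χ : ℤ) := fun χ => by
    have h1 : (s χ : ℝ) = 2 * ((χ : G → ℂ) x).re := by
      have := congrArg Complex.re (hs χ)
      simp only [Complex.add_re, Complex.conj_re, Complex.intCast_re] at this
      linarith
    have h2 := hS χ
    rw [Complex.normSq_apply] at h2
    have : (s χ : ℝ) ^ 2 ≤ 4 * (S χ : ℝ) := by rw [h1]; nlinarith
    exact_mod_cast this
  have hmO : ∀ χ ∈ O, deg χ = 11 * m χ := fun χ hχ => by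
    have h1 := hsb χ
    rw [hO0 χ hχ] at h1
    push_cast at h1
    have : s χ = 0 := by nlinarith
    have := hms χ
    omega
  have hmfam : ∀ θ' ∈ D.fam, 11 * (m θ' : ℤ) = deg D.θ - 5 := fun θ' hθ' => by
    have h1 := hsb θ'
    rw [hfam3 θ' hθ'] at h1
    push_cast at h1
    have : -3 ≤ s θ' ∧ s θ' ≤ 3 := by constructor <;> nlinarith
    have := hms θ'
    rw [(hfamd θ' hθ').1] at this
    omega
  have hmK : ∀ χ ∈ D.K, ∀ i, f χ = i →
      (i = 0 → deg χ = 10 ∧ m χ = 0) ∧ (i = 1 → deg χ = 12 ∧ m χ = 2) ∧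
        (i = 2 → deg χ = 45 ∧ m χ = 5) := fun χ hχ i hi => by
    have hc := hf χ hχ
    rw [hi] at hc
    have hd := (D.two_le hperf).1 χ hχ
    have h' := hms χ
    have hsv : s χ = 2 * D.a χ := by
      have := hs χ
      rw [hKx χ hχ, map_intCast] at this
      have : (2 : ℤ) * D.a χ = s χ := by exact_mod_cast (by linear_combination this :
        (2 : ℂ) * (D.a χ : ℂ) = (s χ : ℂ))
      omega
    rw [hsv] at h'
    refine ⟨?_, ?_, ?_⟩ <;> intro he <;> rw [he] at hc <;>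
      rcases D.a_unit χ hχ with e1 | e1 <;> rw [e1] at hc h' <;> simp [code] at hc <;> omega
  -- the centraliser of `y`
  have hcy : Nat.card (Subgroup.centralizer ({y} : Set G)) = 5 := by
    refine CentY.card_centralizer h hx hy hyx D.θ ?_
    have hm' := hmfam D.θ D.θ_mem
    rcases hcases with ⟨e1, -⟩ | ⟨e1, -⟩
    · left
      have hd16 : deg D.θ = 16 := by omega
      have hm1 : m D.θ = 1 := by omega
      obtain ⟨n, hn'⟩ := hn D.θ
      refine ⟨hd16, fun j hj => ?_, n, ?_⟩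
      · have := hnorm D.θ j hj
        rwa [hm1, Nat.cast_one] at this
      · rw [hn', hm1, Nat.cast_one]
    · right
      refine ⟨by omega, fun he => ?_⟩
      have h1 := hS D.θ
      rw [he, apply_one_eq, show deg D.θ = 5 by omega, hfam3 D.θ D.θ_mem] at h1
      norm_num at h1
  -- rationality at `y`
  obtain ⟨u, hu⟩ := (Local5.exists_inverting hx hy hyx h).2 hcy
  have hrat : ∀ (χ : Cfsg.IrrCharacter G) (j : ℕ), ¬ 5 ∣ j →
      (χ : G → ℂ) (y ^ j) = (χ : G → ℂ) y := by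
    intro χ j hj
    have hy5 : y ^ 5 = 1 := hy ▸ pow_orderOf_eq_one y
    have hstep : ∀ k : ℕ, (χ : G → ℂ) (y ^ (2 * k)) = (χ : G → ℂ) (y ^ k) := fun k => by
      rw [pow_mul, ← hu, conj_pow]
      exact isClassFunction_irr χ _ u
    have h2 : (χ : G → ℂ) (y ^ 2) = (χ : G → ℂ) y := by simpa using hstep 1
    have h4 : (χ : G → ℂ) (y ^ 4) = (χ : G → ℂ) y := by simpa [h2] using hstep 2
    have h3 : (χ : G → ℂ) (y ^ 3) = (χ : G → ℂ) y := by
      have := hstep 4
      rw [h4, show 2 * 4 = 5 + 3 by norm_num, pow_add, hy5, one_mul] at this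
      exact this
    rw [← pow_mod_orderOf, hy]
    have := Nat.mod_lt j (show 5 > 0 by norm_num)
    have hj' : j % 5 ≠ 0 := fun e => hj (Nat.dvd_of_mod_eq_zero e)
    interval_cases hjm : j % 5
    · exact absurd rfl hj'
    · rw [pow_one]
    · exact h2
    · exact h3
    · exact h4
  have hv : ∀ χ : Cfsg.IrrCharacter G, ∃ v : ℤ, (χ : G → ℂ) y = v ∧ |v| ≤ m χ ∧ (5 : ℤ) ∣ m χ + 4 * v := by
    intro χ
    obtain ⟨n, hn'⟩ := hn χ
    rw [hrat χ 2 (by norm_num), hrat χ 3 (by norm_num), hrat χ 4 (by norm_num)] at hn'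
    obtain ⟨v, hv, hv'⟩ := Values.exists_int (isIntegral_apply (isCharacter_irr χ) y)
      (k := 4) (a := 5 * (n : ℤ) - m χ) (by norm_num) (by push_cast; linear_combination -hn')
    refine ⟨v, hv, ?_, ⟨n, by push_cast at hv'; linarith⟩⟩
    have := hnorm χ 1 (by norm_num)
    rw [pow_one, hv, Complex.norm_intCast] at this
    exact_mod_cast this
  choose v hvy hvb hvc using hv
  have hv1 : v (oneChar G) = 1 := by
    have := hvy (oneChar G)
    rw [oneChar_apply] at this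
    exact_mod_cast this.symm
  have hcoly : ∑ χ, v χ ^ 2 = 5 := by
    have h' := Complete.sum_irr_mul_conj y y
    rw [if_pos (IsConj.refl y), hcy, sum_congr rfl fun χ _ => by
      rw [hvy χ, map_intCast, ← Int.cast_mul, ← pow_two]] at h'
    exact_mod_cast h'
  rw [hsplit fun χ => v χ ^ 2, hv1] at hcoly
  have hOnn : 0 ≤ ∑ χ ∈ O, v χ ^ 2 := sum_nonneg fun _ _ => sq_nonneg _
  have hfamnn : 0 ≤ ∑ χ ∈ D.fam, v χ ^ 2 := sum_nonneg fun _ _ => sq_nonneg _
  rcases hcases with ⟨hT16, i₀, hi₀, hrest⟩ | ⟨-, i, j, hij, hi, hj⟩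
  swap
  · exfalso
    have h12 : ∀ k, f (e k) = 1 → v (e k).1 ^ 2 = 4 := fun k hk => by
      obtain ⟨-, h1, -⟩ := hmK _ (e k).2 1 hk
      obtain ⟨-, hm2⟩ := h1 rfl
      have hb := abs_le.mp (hvb (e k).1)
      have hc := hvc (e k).1
      rw [hm2] at hb hc
      have : v (e k).1 = 2 := by omega
      rw [this]; norm_num
    have hne : (e i).1 ≠ (e j).1 := fun he => hij (e.injective (Subtype.ext he))
    have hle : v (e i).1 ^ 2 + v (e j).1 ^ 2 ≤ ∑ χ ∈ D.K, v χ ^ 2 := by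
      refine le_trans (le_of_eq (sum_pair (f := fun χ => v χ ^ 2) hne).symm) ?_
      refine sum_le_sum_of_subset_of_nonneg ?_ fun _ _ _ => sq_nonneg _
      intro χ hχ
      simp only [mem_insert, mem_singleton] at hχ
      rcases hχ with rfl | rfl
      · exact (e i).2
      · exact (e j).2
    rw [h12 i hi, h12 j hj] at hle
    linarith
  set χ₄₅ := (e i₀).1 with hχ45
  obtain ⟨-, -, h45⟩ := hmK _ (e i₀).2 2 hi₀
  obtain ⟨hd45, hm45⟩ := h45 rfl
  have h10 : ∀ χ ∈ D.K.erase χ₄₅, deg χ = 10 ∧ v χ = 0 := fun χ hχ => by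
    obtain ⟨hne, hχK⟩ := mem_erase.mp hχ
    have hj : f χ = 0 := by
      obtain ⟨k, hk⟩ := e.surjective ⟨χ, hχK⟩
      have := hrest k fun e1 => hne (by rw [hχ45, ← e1, hk])
      rwa [hk] at this
    obtain ⟨h0, -, -⟩ := hmK χ hχK 0 hj
    obtain ⟨hd, hm0⟩ := h0 rfl
    have := hvb χ
    rw [hm0] at this
    exact ⟨hd, abs_nonpos_iff.mp (by exact_mod_cast this)⟩
  have hd16 : deg D.θ = 16 := by omega
  have hfv : ∀ θ' ∈ D.fam, v θ' = 1 := fun θ' hθ' => by
    have := hmfam θ' hθ'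
    have hb := abs_le.mp (hvb θ')
    have hc := hvc θ'
    omega
  rw [sum_congr (s₁ := D.fam) rfl (g := fun _ => (1 : ℤ) ^ 2) (fun θ' hθ' => by rw [hfv θ' hθ']),
    sum_const, hfam,
    ← add_sum_erase D.K _ (e i₀).2, ← hχ45, sum_eq_zero fun χ hχ => by
      rw [(h10 χ hχ).2]; norm_num] at hcoly
  have hv45 : v χ₄₅ = 0 := by
    have hc := hvc χ₄₅
    rw [hm45] at hc
    have : v χ₄₅ ^ 2 ≤ 4 := by simp at hcoly; nlinarith
    have : -2 ≤ v χ₄₅ ∧ v χ₄₅ ≤ 2 := by constructor <;> nlinarith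
    omega
  rw [hv45] at hcoly
  norm_num at hcoly
  have hO2 : ∑ χ ∈ O, v χ ^ 2 = 2 := by linarith
  have hsqs := PrimeExceptional.sum_deg_sq (G := G)
  rw [h, hsplit fun χ => deg χ ^ 2, PrimeExceptional.deg_oneChar,
    ← add_sum_erase D.K _ (e i₀).2, ← hχ45, hd45,
    sum_congr (s₁ := D.K.erase χ₄₅) rfl (fun χ hχ => by rw [(h10 χ hχ).1]),
    sum_const, card_erase_of_mem (e i₀).2, hK,
    sum_congr (s₁ := D.fam) rfl (fun θ' hθ' => by rw [(hfamd θ' hθ').1, hd16]), sum_const, hfam,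
    sum_congr (s₁ := O) rfl (g := fun χ => (121 : ℤ) * ((m χ : ℤ) ^ 2)) (fun χ hχ => by
      rw [hmO χ hχ]; ring), ← mul_sum] at hsqs
  have hO42 : ∑ χ ∈ O, m χ ^ 2 = 42 := by
    have : (∑ χ ∈ O, ((m χ : ℤ) ^ 2)) = 42 := by simp at hsqs; omega
    exact_mod_cast this
  have hOpos : ∀ χ ∈ O, 0 < m χ := fun χ hχ => by
    have := hmO χ hχ
    have hd : 0 < deg χ := by
      rw [PrimeExceptional.deg]; exact_mod_cast (H80.ClassMult.deg_spec χ).1
    omega
  obtain ⟨A, B, Cc, hAB, hAC, hBC, hOeq, hmA, hvA, hmB, hvB, hmC, hvC⟩ :=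
    others O m v hOpos (fun χ _ => hvc χ) (fun χ _ => hvb χ) hO2 hO42
  obtain ⟨θ₁, θ₂, hθne, hfeq⟩ := card_eq_two.mp hfam
  have hAO : A ∈ O := by rw [hOeq]; simp
  have hBO : B ∈ O := by rw [hOeq]; simp
  have hCO : Cc ∈ O := by rw [hOeq]; simp
  have h1f : θ₁ ∈ D.fam := by rw [hfeq]; simp
  have h2f : θ₂ ∈ D.fam := by rw [hfeq]; simp
  refine ⟨{ θ₁ := θ₁, θ₂ := θ₂, A := A, B := B, θ_ne := hθne,
            deg_θ₁ := by rw [(hfamd _ h1f).1, hd16]
            deg_θ₂ := by rw [(hfamd _ h2f).1, hd16]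
            deg_A := by rw [hmO A hAO, hmA]; norm_num
            deg_B := by rw [hmO B hBO, hmB]; norm_num
            y_θ₁ := by rw [hvy, hfv _ h1f, Int.cast_one]
            y_θ₂ := by rw [hvy, hfv _ h2f, Int.cast_one]
            y_A := by rw [hvy, hvA, Int.cast_one]
            y_B := by rw [hvy, hvB]; norm_num
            y_others := ?_
            A_fixed := ?_
            cent_y := hcy
            rational := hrat
            degs := ?_ }⟩
  · intro χ h1 h2 h3 h4 h5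
    have hmem : χ ∈ insert (oneChar G) (D.K ∪ D.fam) ∪ O := by
      rw [hO, union_sdiff_of_subset (subset_univ _)]; exact mem_univ _
    simp only [mem_union, mem_insert, hfeq, hOeq, mem_singleton] at hmem
    rw [hvy]
    rcases hmem with ((e1 | hKm | e1 | e1) | (e1 | e1 | e1))
    · exact absurd e1 h1
    · by_cases hq : χ = χ₄₅
      · rw [hq, hv45, Int.cast_zero]
      · rw [(h10 χ (mem_erase.mpr ⟨hq, hKm⟩)).2, Int.cast_zero]
    · exact absurd e1 h2
    · exact absurd e1 h3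
    · exact absurd e1 h4
    · exact absurd e1 h5
    · rw [e1, hvC, Int.cast_zero]
  · rw [Values.sum_pow_x hx hyx (isCharacter_irr A), hs A, apply_one_eq]
    have h' := hms A
    rw [hmA] at h'
    have : ((deg A : ℤ) : ℂ) + 5 * (s A : ℂ) = 11 := by exact_mod_cast h'.symm
    exact this
  · suffices key : (univ : Finset (Cfsg.IrrCharacter G)).val.map (fun χ => deg χ) =
        ({1, 45, 10, 10, 10, 16, 16, 11, 44, 55} : Multiset ℤ) by
      intro inst
      convert key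
    have hdis : Disjoint (insert (oneChar G) (D.K ∪ D.fam)) O := disjoint_sdiff
    have hu' : (univ : Finset (Cfsg.IrrCharacter G)) =
        (insert (oneChar G) (D.K ∪ D.fam)).disjUnion O hdis := by
      rw [disjUnion_eq_union, hO, union_sdiff_of_subset (subset_univ _)]
    have hKmap : D.K.val.map deg = 45 ::ₘ Multiset.replicate 3 10 := by
      rw [← insert_erase (e i₀).2, insert_val_of_notMem (notMem_erase _ _), Multiset.map_cons,
        ← hχ45, hd45, Multiset.map_congr rfl fun χ hχ => (h10 χ hχ).1, Multiset.map_const',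
        card_val, card_erase_of_mem (e i₀).2, hK]
    have hfmap : D.fam.val.map deg = Multiset.replicate 2 16 := by
      rw [Multiset.map_congr rfl fun θ' hθ' => ((hfamd θ' hθ').1.trans hd16),
        Multiset.map_const', card_val, hfam]
    rw [hu', disjUnion_val, insert_val_of_notMem (by simp [D.one_not_mem, D.fam_one]),
      ← disjUnion_eq_union D.K D.fam D.fam_disj, disjUnion_val,
      Multiset.map_add, Multiset.map_cons, Multiset.map_add, PrimeExceptional.deg_oneChar,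
      hKmap, hfmap, hOeq, insert_val_of_notMem (by simp [hAB, hAC]),
      insert_val_of_notMem (by simp [hBC]), singleton_val]
    simp only [Multiset.map_cons, Multiset.map_singleton, hmO A hAO, hmO B hBO, hmO Cc hCO,
      hmA, hmB, hmC]
    rfl

end Cfsg.Agent.Lib.RecogThree.M11.Degrees
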