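import Cfsg.Agent.Lib.RecogThree.M11.Degrees
import Cfsg.Agent.Lib.Classif.ClassSum
import Cfsg.Agent.Lib.Classif.SmallOrderKills3

/-!
Simple groups of order `7920`: involution centralisers of order `48` and a subgroup of index `12`.
-/

set_option autoImplicit false
set_option linter.style.haveILetI false
set_option linter.unusedSectionVars false

namespace Cfsg.Agent.Lib.RecogThree.M11.Index

open Cfsg.Agent.Lib.Characters Cfsg.Agent.Lib.Characters.Basic
open Cfsg.Agent.Lib.Classif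
open Cfsg.Agent.Lib.Classif.PrimeExceptional (deg apply_one_eq)
open scoped ComplexConjugate
open Finset

universe u

variable {G : Type u} [Group G] [Finite G] [IsSimpleGroup G] {x y : G}

theorem square_cases : ∀ k : Fin 6, ∀ C : Fin 125, 36 * (3 * (4 * (k : ℤ) - 9) ^ 2 - 2 * (4 * (k : ℤ) - 9) + 43) = (C : ℤ) ^ 2 →
    (C : ℕ) = 48 ∧ (4 * (k : ℤ) - 9) = 3 := by decide +kernel

/-- Every involution has centraliser of order `48`, and the character of degree `11` has the
value `3` there. -/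
theorem involution (h : Nat.card G = 7920) (hx : orderOf x = 11) (hy : orderOf y = 5)
    (hyx : y * x * y⁻¹ = x ^ 3) (T : Degrees.Table x y) {z : G} (hz : orderOf z = 2) :
    Nat.card (Subgroup.centralizer ({z} : Set G)) = 48 ∧ (T.A : G → ℂ) z = 3 := by
  classical
  haveI : Fintype G := Fintype.ofFinite G
  haveI : Fact (Nat.Prime 11) := ⟨by norm_num⟩
  haveI : Fact (Nat.Prime 5) := ⟨by norm_num⟩
  obtain ⟨R, hR⟩ := Local5.exists_sylow5 hy h
  have hRc : Nat.card (R : Subgroup G) = 5 := Local.card_p5 h R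
  obtain ⟨-, -, hN⟩ := Local5.card_sylow5 hx hy hyx h
  have hN' : Nat.card (Subgroup.normalizer ((R : Subgroup G) : Set G)) = 4 * 5 := by
    rw [hR, hN]
  have hC : Subgroup.centralizer ((R : Subgroup G) : Set G) = R := by
    refine (Subgroup.eq_of_le_of_card_ge ?_ (le_of_eq ?_)).symm
    · rw [hR, Subgroup.zpowers_le, Subgroup.mem_centralizer_iff]
      intro g hg
      obtain ⟨k, rfl⟩ := Subgroup.mem_zpowers_iff.mp hg
      exact ((Commute.refl y).zpow_left k).eq
    · rw [hR, Nat.card_zpowers, hy, Subgroup.zpowers_eq_closure, Subgroup.centralizer_closure,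
        T.cent_y]
  have hrel : (Subgroup.centralizer ((R : Subgroup G) : Set G)).relIndex
      (Subgroup.normalizer ((R : Subgroup G) : Set G)) = 4 := by
    have h' := SmallGroups.Sylow.card_centralizer_mul_relIndex (R : Subgroup G)
    rw [hN', show Nat.card (Subgroup.centralizer ((R : Subgroup G) : Set G)) = 5 by
      rw [hC, hRc]] at h'
    omega
  obtain ⟨D⟩ := FirstPowerData.exists_data R hRc hrel
  have hK : D.K.card = 3 := by have := D.card_K; omega
  have hfam : D.fam.card = 1 := by have := D.fam_card; omega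
  have hy1 : y ≠ 1 := fun e => by rw [e, orderOf_one] at hy; omega
  have hKy : ∀ χ ∈ D.K, (χ : G → ℂ) y = (D.a χ : ℂ) := fun χ hχ => by
    simpa using D.value χ hχ y (hR ▸ Subgroup.mem_zpowers y) hy1 1 (one_mem _)
      (by rw [orderOf_one]; norm_num)
  have hθy : (D.θ : G → ℂ) y = -(D.δ : ℂ) := by
    have h' := D.fam_singular hC y (by rw [hy])
    obtain ⟨θ', hθ'⟩ := card_eq_one.mp hfam
    have := D.θ_mem
    rw [hθ', mem_singleton] at this
    rw [hθ', sum_singleton, ← this] at h'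
    exact h'
  have hθK : D.θ ∉ D.K := D.θ_not_mem
  set F : Finset (Cfsg.IrrCharacter G) := insert D.θ D.K with hF
  have hFc : F.card = 4 := by rw [hF, card_insert_of_notMem hθK, hK]
  have hFsub : F ⊆ {T.θ₁, T.θ₂, T.A, T.B} := by
    intro χ hχ
    by_contra hn
    simp only [mem_insert, mem_singleton, not_or] at hn
    obtain ⟨h1, h2, h3, h4⟩ := hn
    rw [hF, mem_insert] at hχ
    rcases hχ with rfl | hχ
    · have h0 := T.y_others D.θ D.θ_ne_one h1 h2 h3 h4
      rw [hθy] at h0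
      rcases D.δ_unit with e | e <;> rw [e] at h0 <;> norm_num at h0
    · have h0 := T.y_others χ (fun e => D.one_not_mem (e ▸ hχ)) h1 h2 h3 h4
      rw [hKy χ hχ] at h0
      rcases D.a_unit χ hχ with e | e <;> rw [e] at h0 <;> norm_num at h0
  have hFeq : F = {T.θ₁, T.θ₂, T.A, T.B} := eq_of_subset_of_card_le hFsub (by
    rw [hFc]
    exact (card_insert_le _ _).trans (by
      have := card_insert_le T.θ₂ ({T.A, T.B} : Finset (Cfsg.IrrCharacter G))
      have := card_le_two (a := T.A) (b := T.B)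
      omega))
  have hne : ∀ (χ ψ : Cfsg.IrrCharacter G), deg χ ≠ deg ψ → χ ≠ ψ := fun χ ψ hd e => hd (e ▸ rfl)
  have hsum : ∀ g : Cfsg.IrrCharacter G → ℂ,
      ∑ χ ∈ D.K, (D.a χ : ℂ) * g χ - (D.δ : ℂ) * g D.θ = g T.θ₁ + g T.θ₂ + g T.A - g T.B := by
    intro g
    have h1 : ∑ χ ∈ F, (χ : G → ℂ) y * g χ =
        ∑ χ ∈ D.K, (D.a χ : ℂ) * g χ - (D.δ : ℂ) * g D.θ := by
      rw [hF, sum_insert hθK, hθy, sum_congr rfl fun χ hχ => by rw [hKy χ hχ]]
      ring
    rw [← h1, hFeq, sum_insert, sum_insert, sum_pair, T.y_θ₁, T.y_θ₂, T.y_A, T.y_B]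
    · ring
    · exact hne _ _ (by rw [T.deg_A, T.deg_B]; norm_num)
    · simp only [mem_insert, mem_singleton, not_or]
      exact ⟨hne _ _ (by rw [T.deg_θ₂, T.deg_A]; norm_num),
        hne _ _ (by rw [T.deg_θ₂, T.deg_B]; norm_num)⟩
    · simp only [mem_insert, mem_singleton, not_or]
      exact ⟨T.θ_ne, hne _ _ (by rw [T.deg_θ₁, T.deg_A]; norm_num),
        hne _ _ (by rw [T.deg_θ₁, T.deg_B]; norm_num)⟩
  have hperf := SmallGroups.Sylow.commutator_eq_top (Local.not_isComm h)
  -- the values at an involution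
  have key : ∀ w : G, orderOf w = 2 → ∃ a : ℤ, (T.A : G → ℂ) w = a ∧ (4 : ℤ) ∣ 11 - a ∧
      |a| ≤ 11 ∧ 1 + ∑ χ ∈ D.K, (D.a χ : ℂ) * ((χ : G → ℂ) w * (χ : G → ℂ) w / (deg χ : ℂ)) -
        (D.δ : ℂ) * ((D.θ : G → ℂ) w * (D.θ : G → ℂ) w / (deg D.θ : ℂ)) =
        ((3 * a ^ 2 - 2 * a + 43 : ℤ) : ℂ) / 44 := by
    intro w hw
    have hww : w * w = 1 := by rw [← pow_two, ← hw, pow_orderOf_eq_one]
    have h5 : ¬ 5 ∣ orderOf w := by rw [hw]; norm_num
    obtain ⟨a, ha, h4, hle⟩ := FirstPowerData.exists_int_mod_four hperf T.A hww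
    rw [T.deg_A] at h4 hle
    have h0 : ∀ θ : Cfsg.IrrCharacter G, deg θ = 16 → (θ : G → ℂ) w = 0 := fun θ hd =>
      DefectZero.apply_eq_zero (n := 4) (r := 495) (e := 1) Nat.prime_two θ (by rw [h]; norm_num)
        (by norm_num) (by rw [apply_one_eq, hd]; norm_num) (by rw [hw])
    have hr := D.rel w h5
    have hr' := hsum fun χ => (χ : G → ℂ) w
    rw [h0 _ T.deg_θ₁, h0 _ T.deg_θ₂, ha] at hr'
    have hB : (T.B : G → ℂ) w = (a : ℂ) + 1 := by linear_combination hr' - hr
    refine ⟨a, ha, h4, hle, ?_⟩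
    rw [add_sub_assoc, hsum fun χ => (χ : G → ℂ) w * (χ : G → ℂ) w / (deg χ : ℂ)]
    simp only [h0 _ T.deg_θ₁, h0 _ T.deg_θ₂, ha, hB, T.deg_A, T.deg_B]
    push_cast
    ring
  obtain ⟨a₀, ha₀, -, -, heq₀⟩ := key z hz
  have hzz : z * z = 1 := by rw [← pow_two, ← hz, pow_orderOf_eq_one]
  have hconj : ∃ b : G, b * z * b⁻¹ ∈ Subgroup.normalizer ((R : Subgroup G) : Set G) := by
    by_contra hout
    push Not at hout
    have h' := ClassSum.class_sum_zero R hRc hC D hN' (by rw [hz]; norm_num) hzz hout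
    rw [heq₀, h] at h'
    have hzero : (3 * a₀ ^ 2 - 2 * a₀ + 43 : ℤ) = 0 := by
      have : ((3 * a₀ ^ 2 - 2 * a₀ + 43 : ℤ) : ℂ) = 0 := by
        field_simp at h'
        simpa using h'
      exact_mod_cast this
    nlinarith [sq_nonneg (a₀ - 1)]
  obtain ⟨b, hb⟩ := hconj
  set w := b * z * b⁻¹ with hw
  have hwo : orderOf w = 2 := by rw [hw, ← hz]; exact (MulAut.conj b).orderOf_eq z
  obtain ⟨a, ha, h4, hle, heq⟩ := key w hwo
  have hcs := ClassSum.class_sum R hRc (by norm_num) hC D hN' hb hwo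
  rw [heq, h] at hcs
  set C := Nat.card (Subgroup.centralizer ({w} : Set G))
  have hint : 36 * (3 * a ^ 2 - 2 * a + 43) = (C : ℤ) ^ 2 := by
    have : ((36 * (3 * a ^ 2 - 2 * a + 43) : ℤ) : ℂ) = (((C : ℤ) ^ 2 : ℤ) : ℂ) := by
      push_cast at hcs ⊢
      linear_combination (1 / 5 : ℂ) * hcs
    exact_mod_cast this
  obtain ⟨hl1, hl2⟩ := abs_le.mp hle
  have hC125 : C < 125 := by
    have : (C : ℤ) ^ 2 < 125 ^ 2 := by
      rw [← hint]
      nlinarith [mul_nonneg (by linarith : (0 : ℤ) ≤ 11 - a) (by linarith : (0 : ℤ) ≤ a + 11)]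
    have := lt_of_pow_lt_pow_left₀ 2 (by norm_num) this
    exact_mod_cast this
  obtain ⟨k, hk⟩ : ∃ k : Fin 6, a = 4 * (k : ℤ) - 9 :=
    ⟨⟨((a + 9) / 4).toNat, by omega⟩, by simp only; omega⟩
  rw [hk] at hint ha
  obtain ⟨hC48, ha3⟩ := square_cases k ⟨C, hC125⟩ hint
  rw [ha3] at ha
  have hzw : IsConj z w := isConj_iff.mpr ⟨b, rfl⟩
  refine ⟨?_, by rw [classFunction_apply_of_isConj (isClassFunction_irr T.A) hzw, ha]; norm_num⟩
  have e1 := Complete.card_conjugates_mul_centralizer (G := G) z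
  have e2 := Complete.card_conjugates_mul_centralizer (G := G) w
  rw [Nat.card_congr (Equiv.subtypeEquivRight fun g => (⟨fun hg => hzw.symm.trans hg,
    fun hg => hzw.trans hg⟩ : IsConj z g ↔ IsConj w g))] at e1
  rw [show Nat.card (Subgroup.centralizer ({w} : Set G)) = 48 from hC48] at e2
  haveI : Nonempty {g : G // IsConj w g} := ⟨⟨w, IsConj.refl w⟩⟩
  exact Nat.eq_of_mul_eq_mul_left Nat.card_pos (e1.trans e2.symm)

/-- A subgroup of index `12` containing `x` and `y`. -/
theorem exists_index_twelve (h : Nat.card G = 7920) (hx : orderOf x = 11) (hy : orderOf y = 5)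
    (hyx : y * x * y⁻¹ = x ^ 3) :
    ∃ H : Subgroup G, x ∈ H ∧ y ∈ H ∧ H.index = 12 := by
  classical
  haveI : Fintype G := Fintype.ofFinite G
  haveI : Fact (Nat.Prime 11) := ⟨by norm_num⟩
  haveI : Fact (Nat.Prime 5) := ⟨by norm_num⟩
  haveI : Fact (Nat.Prime 2) := ⟨Nat.prime_two⟩
  obtain ⟨T⟩ := Degrees.exists_table h hx hy hyx
  obtain ⟨R, hR⟩ := Local5.exists_sylow5 hy h
  obtain ⟨-, -, hN⟩ := Local5.card_sylow5 hx hy hyx h
  obtain ⟨⟨t, htN⟩, ht⟩ := exists_prime_orderOf_dvd_card'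
    (G := Subgroup.normalizer ((R : Subgroup G) : Set G)) 2 (by rw [hR, hN]; norm_num)
  rw [Subgroup.orderOf_mk] at ht
  have ht2 : t * t = 1 := by rw [← pow_two, ← ht, pow_orderOf_eq_one]
  have hinv : t * y * t⁻¹ = y⁻¹ := by
    rcases FixedSylow.inverts_or_centralizes R (Local.card_p5 h R) htN ht2 with hc | hc
    · exfalso
      rw [hR, Subgroup.zpowers_eq_closure, Subgroup.centralizer_closure] at hc
      have := Subgroup.orderOf_dvd_natCard _ hc
      rw [ht, T.cent_y] at this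
      norm_num at this
    · exact hc y (hR ▸ Subgroup.mem_zpowers y)
  have hy5 : y ^ 5 = 1 := hy ▸ pow_orderOf_eq_one y
  have hx11 : x ^ 11 = 1 := hx ▸ pow_orderOf_eq_one x
  obtain ⟨d, ρ, hirr, hρ⟩ := exists_rep T.A
  have hd : (d : ℂ) = 11 := by
    have h1 := apply_one_eq T.A
    rw [← hρ, Representation.char_one, Module.finrank_fin_fun, T.deg_A] at h1
    exact_mod_cast h1
  set E := Rep.avg ρ x 11 with hE
  set Y := Rep.avg ρ y 5 with hY
  have hEE : E * E = E := Rep.avg_idem ρ (by norm_num) hx11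
  have hYY : Y * Y = Y := Rep.avg_idem ρ (by norm_num) hy5
  have hYE : Commute Y E := by
    rw [hY, Rep.avg]
    refine (Commute.sum_left _ _ _ fun j _ => ?_).smul_left _
    rw [map_pow]
    exact (Commute.pow_left (Rep.comm_avg ρ hx11 (by norm_num) hyx) j)
  have hval : ∀ j : ℕ, ¬ 5 ∣ j → (T.A : G → ℂ) (y ^ j) = 1 := fun j hj => by
    rw [T.rational T.A j hj, T.y_A]
  have hA1 : (T.A : G → ℂ) 1 = 11 := by rw [apply_one_eq, T.deg_A]; norm_num
  have htr : LinearMap.trace ℂ (Fin d → ℂ) (Y * E) = 1 := by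
    rw [hY, hE, Rep.trace_avg_mul_avg, hρ]
    simp only [sum_range_succ _ 4, sum_range_succ _ 3, sum_range_succ _ 2, sum_range_succ _ 1,
      sum_range_one, pow_zero, one_mul]
    have hc : ∀ j : ℕ, ¬ 5 ∣ j → ∀ i ∈ range 11, (T.A : G → ℂ) (y ^ j * x ^ i) = 1 := by
      intro j hj i _
      rw [← hval j hj]
      refine classFunction_apply_of_isConj (isClassFunction_irr T.A)
        (IsConj.trans ?_ (Local5.isConj_coset hx hyx hj i).symm)
      exact isConj_iff.mpr ⟨x ^ i, by group⟩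
    rw [sum_congr rfl (hc 1 (by norm_num)), sum_congr rfl (hc 2 (by norm_num)),
      sum_congr rfl (hc 3 (by norm_num)), sum_congr rfl (hc 4 (by norm_num)), T.A_fixed]
    simp
    norm_num
  have hPP : Y * E * (Y * E) = Y * E := by
    rw [mul_assoc, ← mul_assoc E Y E, ← hYE.eq, mul_assoc Y E E, hEE, ← mul_assoc, hYY]
  have hne0 : Y * E ≠ 0 := fun e => by rw [e, map_zero] at htr; exact zero_ne_one htr
  obtain ⟨w₀, hw₀⟩ : ∃ w₀, (Y * E) w₀ ≠ 0 := by
    by_contra hall
    push Not at hall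
    exact hne0 (LinearMap.ext hall)
  set v := (Y * E) w₀ with hv
  have hxv : ρ x v = v := by
    rw [hv, hYE.eq, ← Module.End.mul_apply, ← mul_assoc, hE, Rep.rho_mul_avg ρ hx11]
  have hyv : ρ y v = v := by
    rw [hv, ← Module.End.mul_apply, ← mul_assoc, hY, Rep.rho_mul_avg ρ hy5]
  -- `t` fixes the fixed space of `y`
  have hcomm : Commute (ρ t) Y := Rep.comm_avg ρ hy5 (r := 4) (by norm_num) (by
    rw [hinv]; exact (eq_inv_of_mul_eq_one_left (by rw [← pow_succ]; exact hy5)).symm)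
  have hρt : ρ t * ρ t = 1 := by rw [← map_mul, ht2, map_one]
  set Q : Module.End ℂ (Fin d → ℂ) := (1 / 2 : ℂ) • (Y - ρ t * Y) with hQ
  have hQQ : Q * Q = Q := by
    have h1 : ρ t * Y * (ρ t * Y) = Y := by
      rw [mul_assoc, ← mul_assoc Y (ρ t) Y, ← hcomm.eq, mul_assoc (ρ t) Y Y, hYY, ← mul_assoc,
        hρt, one_mul]
    have h2 : Y * (ρ t * Y) = ρ t * Y := by
      rw [← mul_assoc, ← hcomm.eq, mul_assoc, hYY]
    have h3 : ρ t * Y * Y = ρ t * Y := by rw [mul_assoc, hYY]
    rw [hQ, smul_mul_smul_comm, mul_sub, sub_mul, sub_mul, hYY, h1, h2, h3]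
    module
  have hQtr : LinearMap.trace ℂ (Fin d → ℂ) Q = 0 := by
    have hA3 : ∀ j : ℕ, (T.A : G → ℂ) (t * y ^ j) = 3 := fun j => by
      refine (involution h hx hy hyx T (orderOf_eq_prime ?_ ?_)).2
      · rw [pow_two]
        calc t * y ^ j * (t * y ^ j) = t * y ^ j * t⁻¹ * (t * t) * y ^ j := by group
          _ = 1 := by rw [ht2, mul_one, ← conj_pow, hinv, inv_pow, inv_mul_cancel]
      · intro e
        have htR : t ∈ Subgroup.zpowers y := by
          rw [eq_inv_of_mul_eq_one_left e]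
          exact inv_mem (Subgroup.npow_mem_zpowers y j)
        have := Subgroup.orderOf_dvd_natCard _ htR
        rw [ht, Nat.card_zpowers, hy] at this
        norm_num at this
    rw [hQ, map_smul, map_sub, hY, Rep.trace_avg, Rep.trace_mul_avg, hρ]
    simp only [hA3, sum_range_succ _ 4, sum_range_succ _ 3, sum_range_succ _ 2, sum_range_succ _ 1,
      sum_range_one, pow_zero, hA1, hval 4 (by norm_num), hval 3 (by norm_num),
      hval 2 (by norm_num), hval 1 (by norm_num)]
    norm_num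
  have hQ0 := Rep.eq_zero_of_trace Q hQQ hQtr
  have htY : ρ t * Y = Y := by
    rw [hQ, smul_eq_zero] at hQ0
    exact (sub_eq_zero.mp (hQ0.resolve_left (by norm_num))).symm
  have htv : ρ t v = v := by
    rw [hv, ← Module.End.mul_apply, ← mul_assoc, htY]
  let H : Subgroup G :=
    { carrier := {g | ρ g v = v}
      one_mem' := by simp
      mul_mem' := fun {a b} ha hb => by
        show ρ (a * b) v = v
        rw [map_mul, Module.End.mul_apply, show ρ b v = v from hb, show ρ a v = v from ha]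
      inv_mem' := fun {a} ha => by
        show ρ a⁻¹ v = v
        conv_lhs => rw [← show ρ a v = v from ha]
        rw [← Module.End.mul_apply, ← map_mul, inv_mul_cancel, map_one, Module.End.one_apply] }
  have hxH : x ∈ H := hxv
  have hyH : y ∈ H := hyv
  have htH : t ∈ H := htv
  refine ⟨H, hxH, hyH, ?_⟩
  have hH : H ≠ ⊤ := fun htop => by
    let W : Subrepresentation ρ := ⟨Submodule.span ℂ {v}, fun g w hw => by
      obtain ⟨c, rfl⟩ := Submodule.mem_span_singleton.mp hw
      have hg : ρ g v = v := show g ∈ H from htop ▸ Subgroup.mem_top g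
      rw [map_smul, hg]
      exact Submodule.smul_mem _ c (Submodule.mem_span_singleton_self v)⟩
    rcases (IsSimpleOrder.eq_bot_or_eq_top (self := hirr) W) with e | e
    · have h' := congrArg Subrepresentation.toSubmodule e
      exact hw₀ (Submodule.span_singleton_eq_bot.mp (h'.trans rfl))
    · have h' : Submodule.span ℂ {v} = ⊤ := congrArg Subrepresentation.toSubmodule e
      have h1 := finrank_span_singleton (K := ℂ) hw₀
      rw [h', finrank_top, Module.finrank_fin_fun] at h1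
      rw [h1] at hd
      norm_num at hd
  obtain ⟨P, hP⟩ := Local5.exists_sylow11 hx h
  obtain ⟨-, hNP⟩ := Local.p11_data h P
  have hPc := Local.card_p11 h P
  have hPH : (P : Subgroup G) ≤ H := by rw [hP]; exact Subgroup.zpowers_le.mpr hxH
  have hNH : Subgroup.normalizer ((P : Subgroup G) : Set G) ≤ H := by
    have hyN : y ∈ Subgroup.normalizer ((P : Subgroup G) : Set G) := by
      rw [hP]
      refine Subgroup.mem_normalizer_fintype fun n hn => ?_
      obtain ⟨k, rfl⟩ := Subgroup.mem_zpowers_iff.mp hn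
      rw [SetLike.mem_coe, ← conj_zpow, hyx]
      exact Subgroup.zpow_mem _ (Subgroup.npow_mem_zpowers x 3) k
    set NP := Subgroup.normalizer ((P : Subgroup G) : Set G)
    have h5 : 5 ∣ Nat.card ↥(H ⊓ NP) := hy ▸ Subgroup.orderOf_dvd_natCard _ ⟨hyH, hyN⟩
    have h11 : 11 ∣ Nat.card ↥(H ⊓ NP) := hx ▸ Subgroup.orderOf_dvd_natCard _
      ⟨hxH, Subgroup.le_normalizer (hP ▸ Subgroup.mem_zpowers x)⟩
    have h55 := Nat.Coprime.mul_dvd_of_dvd_of_dvd (by norm_num) h5 h11
    have := Subgroup.eq_of_le_of_card_ge (inf_le_right : H ⊓ NP ≤ NP)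
      (by rw [hNP]; exact Nat.le_of_dvd Nat.card_pos h55)
    exact this ▸ inf_le_left
  have hk : Nat.card (Sylow 11 H) =
      (Subgroup.normalizer (((P : Subgroup G).subgroupOf H : Subgroup H) : Set H)).index :=
    Sylow.card_eq_index_normalizer (P.subtype hPH)
  rw [← Subgroup.subgroupOf_normalizer_eq hPH] at hk
  have hmod := SmallGroups.Sylow.card_sylow_mod (G := H) (p := 11)
  set k := ((Subgroup.normalizer ((P : Subgroup G) : Set G)).subgroupOf H).index with hkdef
  rw [hk] at hmod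
  have hHk : Nat.card H = 55 * k := by
    rw [← Subgroup.card_mul_index ((Subgroup.normalizer ((P : Subgroup G) : Set G)).subgroupOf H),
      Nat.card_congr (Subgroup.subgroupOfEquivOfLe hNH).toEquiv, hNP, ← hkdef]
  have hidx := Subgroup.card_mul_index H
  rw [hHk, h] at hidx
  have hk144 : k ∣ 144 := by
    refine Nat.dvd_of_mul_dvd_mul_left (by norm_num : 0 < 55) ?_
    rw [← hHk]; exact (Subgroup.card_subgroup_dvd_card H).trans (by rw [h])
  have hi1 : H.index ≠ 1 := fun e => hH (Subgroup.index_eq_one.mp e)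
  have hk2 : 2 ∣ k := by
    have := Subgroup.orderOf_dvd_natCard H htH
    rw [ht, hHk] at this
    exact (Nat.Coprime.dvd_mul_left (by norm_num)).mp this
  have key : ∀ n ∈ Nat.divisors 144, n % 11 = 1 → 2 ∣ n → n = 12 ∨ n = 144 := by decide +kernel
  rcases key k (Nat.mem_divisors.mpr ⟨hk144, by norm_num⟩) hmod hk2 with e | e <;> rw [e] at hidx <;>
    omega

end Cfsg.Agent.Lib.RecogThree.M11.Index
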