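import Cfsg.Agent.Lib.RecogThree.M11.Local

/-!
Simple groups of order `7920`: the `396` Sylow subgroups of order `5`.
-/

set_option autoImplicit false
set_option linter.style.haveILetI false
set_option linter.unusedSectionVars false

namespace Cfsg.Agent.Lib.RecogThree.M11.Local5

open Cfsg.Agent.Lib.SmallGroups Cfsg.Agent.Lib.Classif.SmallOrderTools
  Cfsg.Agent.Lib.Classif.SmallOrderKills3 Cfsg.Agent.Lib.Classif

universe u

section Basic

variable {G : Type u} [Group G]
variable {x y : G} (hx : orderOf x = 11) (hy : orderOf y = 5) (hyx : y * x * y⁻¹ = x ^ 3)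

include hyx in
theorem conj_pow_x (j : ℕ) : y * x ^ j * y⁻¹ = x ^ (3 * j) := by
  rw [← conj_pow, hyx, ← pow_mul]

include hyx in
theorem y_mul_pow (j : ℕ) : y * x ^ j = x ^ (3 * j) * y := by
  rw [← conj_pow_x hyx j, inv_mul_cancel_right]

include hx hyx in
/-- All elements of the coset `⟨x⟩ y ^ j` are conjugate to `y ^ j`. -/
theorem isConj_coset {j : ℕ} (hj : ¬ 5 ∣ j) (k : ℕ) : IsConj (y ^ j) (x ^ k * y ^ j) := by
  have hconj : ∀ m : ℕ, ∀ i : ℕ, y ^ m * x ^ i * (y ^ m)⁻¹ = x ^ (3 ^ m * i) := by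
    intro m
    induction m with
    | zero => intro i; simp
    | succ m ih =>
      intro i
      calc y ^ (m + 1) * x ^ i * (y ^ (m + 1))⁻¹ = y * (y ^ m * x ^ i * (y ^ m)⁻¹) * y⁻¹ := by
            rw [pow_succ']; group
        _ = x ^ (3 ^ (m + 1) * i) := by rw [ih, conj_pow_x hyx, pow_succ']; congr 1; ring
  have hmod : 3 ^ j % 11 = 3 ^ (j % 5) % 11 := by
    conv_lhs => rw [← Nat.div_add_mod j 5, pow_add, pow_mul]
    rw [Nat.mul_mod, Nat.pow_mod]
    simp [Nat.mod_mod]
  have key : ∀ r : Fin 5, r.1 ≠ 0 → ∀ k : Fin 11, ∃ d : Fin 11,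
      d.1 % 11 = (k.1 + d.1 * (3 ^ r.1 % 11)) % 11 := by decide +kernel
  obtain ⟨d, hd⟩ := key ⟨j % 5, Nat.mod_lt _ (by norm_num)⟩ (by show j % 5 ≠ 0; omega)
    ⟨k % 11, Nat.mod_lt _ (by norm_num)⟩
  refine isConj_iff.mpr ⟨x ^ (d : ℕ), ?_⟩
  have h1 : x ^ k * y ^ j * x ^ (d : ℕ) = x ^ (k + 3 ^ j * d) * y ^ j := by
    rw [pow_add, ← hconj j d]; group
  have h2 : x ^ (d : ℕ) = x ^ (k + 3 ^ j * d) := by
    rw [pow_eq_pow_iff_modEq, hx]
    refine hd.trans ?_
    simp only at *
    rw [Nat.add_mod k, Nat.mul_mod (3 ^ j), hmod, Nat.add_mod (k % 11), Nat.mul_mod (d : ℕ)]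
    simp [Nat.mod_mod, mul_comm]
  rw [mul_inv_eq_iff_eq_mul, h1, ← h2]

end Basic

variable {G : Type u} [Group G] [Finite G] [IsSimpleGroup G]
variable {x y : G} (hx : orderOf x = 11) (hy : orderOf y = 5) (hyx : y * x * y⁻¹ = x ^ 3)

include hx in
theorem exists_sylow11 [Fact (Nat.Prime 11)] (h : Nat.card G = 7920) :
    ∃ P : Sylow 11 G, (P : Subgroup G) = Subgroup.zpowers x := by
  have hp : IsPGroup 11 (Subgroup.zpowers x) :=
    IsPGroup.of_card (n := 1) (by rw [Nat.card_zpowers, hx, pow_one])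
  obtain ⟨P, hP⟩ := hp.exists_le_sylow
  exact ⟨P, (Subgroup.eq_of_le_of_card_ge hP
    (by rw [Local.card_p11 h P, Nat.card_zpowers, hx])).symm⟩

include hy in
theorem exists_sylow5 [Fact (Nat.Prime 5)] (h : Nat.card G = 7920) :
    ∃ R : Sylow 5 G, (R : Subgroup G) = Subgroup.zpowers y := by
  have hp : IsPGroup 5 (Subgroup.zpowers y) :=
    IsPGroup.of_card (n := 1) (by rw [Nat.card_zpowers, hy, pow_one])
  obtain ⟨R, hR⟩ := hp.exists_le_sylow
  exact ⟨R, (Subgroup.eq_of_le_of_card_ge hR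
    (by rw [Local.card_p5 h R, Nat.card_zpowers, hy])).symm⟩

include hx hy hyx in
theorem x_not_normalizes (d : ℕ) (hd : x ^ d * y * (x ^ d)⁻¹ ∈ Subgroup.zpowers y) :
    11 ∣ d := by
  have h1 : x ^ d * y * (x ^ d)⁻¹ * y⁻¹ ∈ Subgroup.zpowers x := by
    have : x ^ d * y * (x ^ d)⁻¹ * y⁻¹ = x ^ d * (x ^ (3 * d))⁻¹ := by
      rw [← conj_pow_x hyx d]; group
    rw [this]
    exact mul_mem (Subgroup.npow_mem_zpowers x d) (inv_mem (Subgroup.npow_mem_zpowers x _))
  have h2 : x ^ d * y * (x ^ d)⁻¹ * y⁻¹ ∈ Subgroup.zpowers y :=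
    mul_mem hd (inv_mem (Subgroup.mem_zpowers y))
  have hinf : Subgroup.zpowers x ⊓ Subgroup.zpowers y = ⊥ :=
    Subgroup.inf_eq_bot_of_coprime (by rw [Nat.card_zpowers, Nat.card_zpowers, hx, hy]; norm_num)
  have h3 : x ^ d * y * (x ^ d)⁻¹ * y⁻¹ = 1 := by
    rw [← Subgroup.mem_bot, ← hinf]; exact ⟨h1, h2⟩
  have h4 : x ^ (3 * d) = x ^ d := by
    rw [← conj_pow_x hyx d]
    calc y * x ^ d * y⁻¹ = (x ^ d * y * (x ^ d)⁻¹ * y⁻¹)⁻¹ * x ^ d := by group
      _ = x ^ d := by rw [h3, inv_one, one_mul]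
  rw [pow_eq_pow_iff_modEq, hx] at h4
  unfold Nat.ModEq at h4
  omega

include hx hy hyx in
/-- A fixed point count for `y` on the `144` Sylow subgroups of order `11`. -/
theorem card_fixed_le (h : Nat.card G = 7920) [Fact (Nat.Prime 11)] :
    Nat.card {Q : Sylow 11 G // y • Q = Q} ≤ 14 := by
  classical
  obtain ⟨P, hP⟩ := exists_sylow11 hx h
  have hxP : x ∈ (P : Subgroup G) := hP ▸ Subgroup.mem_zpowers x
  have hxfix : ∀ i : ℕ, x ^ i • P = P := fun i =>
    Sylow.smul_eq_iff_mem_normalizer.mpr (Subgroup.le_normalizer (pow_mem hxP i))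
  have hymul : ∀ (d : ℕ) (Q : Sylow 11 G), y • x ^ d • Q = x ^ (3 * d) • y • Q := by
    intro d Q; rw [smul_smul, smul_smul, y_mul_pow hyx]
  let φ : {Q : Sylow 11 G // y • Q = Q ∧ Q ≠ P} × Fin 11 → {Q : Sylow 11 G // Q ≠ P} :=
    fun z => ⟨x ^ (z.2 : ℕ) • z.1.1, fun e => z.1.2.2
      (MulAction.injective _ (e.trans (hxfix _).symm))⟩
  have hφ : Function.Injective φ := by
    rintro ⟨⟨Q, hQ, hQP⟩, i⟩ ⟨⟨Q', hQ', hQP'⟩, j⟩ e
    have e' : x ^ (i : ℕ) • Q = x ^ (j : ℕ) • Q' := congrArg Subtype.val e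
    have hQd : Q' = x ^ (11 - (j : ℕ) + i) • Q := by
      have h11 : x ^ 11 = 1 := hx ▸ pow_orderOf_eq_one x
      rw [pow_add, mul_smul, e', ← mul_smul, ← pow_add, Nat.sub_add_cancel j.2.le, h11,
        one_smul]
    set d := 11 - (j : ℕ) + i with hddef
    have h2d : x ^ (2 * d) • Q = Q := by
      have e3 : x ^ (3 * d) • Q = x ^ d • Q := by
        rw [← hQd]
        conv_rhs => rw [← hQ', hQd, hymul, hQ]
      rw [show 3 * d = d + 2 * d by ring, pow_add, mul_smul] at e3
      exact MulAction.injective _ e3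
    have hmem : x ^ (2 * d) ∈ (Q : Subgroup G) := by
      have hP' : IsPGroup 11 (Subgroup.zpowers x) :=
        IsPGroup.of_card (n := 1) (by rw [Nat.card_zpowers, hx, pow_one])
      have : x ^ (2 * d) ∈ Subgroup.zpowers x ⊓ Subgroup.normalizer ((Q : Subgroup G) : Set G) :=
        ⟨Subgroup.npow_mem_zpowers x _, Sylow.smul_eq_iff_mem_normalizer.mp h2d⟩
      exact ((le_of_eq (hP'.inf_normalizer_sylow Q)) this).2
    have h11 : 11 ∣ d := by
      by_contra hnd
      refine hQP (Sylow.ext (Subgroup.eq_of_le_of_card_ge ?_ ?_).symm)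
      · rw [hP, Subgroup.zpowers_le]
        have hco : (2 * d).Coprime (orderOf x) := by
          rw [hx]
          exact ((Nat.Prime.coprime_iff_not_dvd (by norm_num)).mpr (by omega)).symm
        obtain ⟨m, hm⟩ := exists_pow_eq_self_of_coprime hco
        rw [← hm]
        exact pow_mem hmem m
      · rw [Local.card_p11 h P, Local.card_p11 h Q]
    have hij : i = j := by
      have := i.2; have := j.2
      apply Fin.ext; omega
    subst hij
    have := MulAction.injective _ e'
    subst this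
    rfl
  have hle := Nat.card_le_card_of_injective φ hφ
  rw [Nat.card_prod, Nat.card_eq_fintype_card (α := Fin 11), Fintype.card_fin] at hle
  have : Fintype (Sylow 11 G) := Fintype.ofFinite _
  have h1 : Nat.card {Q : Sylow 11 G // Q ≠ P} = 143 := by
    rw [Nat.card_eq_fintype_card, Fintype.card_subtype_compl, Fintype.card_subtype_eq,
      ← Nat.card_eq_fintype_card, Local.card_sylow11 h]
  have h2 : Nat.card {Q : Sylow 11 G // y • Q = Q} ≤
      Nat.card {Q : Sylow 11 G // y • Q = Q ∧ Q ≠ P} + 1 := by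
    simp only [Nat.card_eq_fintype_card, Fintype.card_subtype]
    calc (Finset.univ.filter fun Q : Sylow 11 G => y • Q = Q).card
        ≤ (insert P (Finset.univ.filter fun Q : Sylow 11 G => y • Q = Q ∧ Q ≠ P)).card := by
          refine Finset.card_le_card fun Q hQ => ?_
          simp only [Finset.mem_filter, Finset.mem_univ, true_and, Finset.mem_insert] at hQ ⊢
          tauto
      _ ≤ _ := Finset.card_insert_le _ _
  omega

include hx hy hyx in
/-- The normaliser data of `⟨y⟩`: the centraliser has order `5` or `10`, and the normaliser has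
order `20`. -/
theorem card_sylow5 (h : Nat.card G = 7920) [Fact (Nat.Prime 11)] [Fact (Nat.Prime 5)] :
    Nat.card (Sylow 5 G) = 396 ∧
      (Nat.card (Subgroup.centralizer ({y} : Set G)) = 5 ∨
        Nat.card (Subgroup.centralizer ({y} : Set G)) = 10) ∧
      Nat.card (Subgroup.normalizer ((Subgroup.zpowers y : Subgroup G) : Set G)) = 20 := by
  classical
  obtain ⟨P, hP⟩ := exists_sylow11 hx h
  obtain ⟨R, hR⟩ := exists_sylow5 hy h
  obtain ⟨-, hd⟩ := prime_data (Local.not_isComm h) (p := 5) (m := 1584) h (by norm_num)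
    (by norm_num) (by norm_num)
  obtain ⟨-, e, c, he, he1, hc, hC, hN, hce⟩ := hd R
  rw [hR, show Subgroup.centralizer ((Subgroup.zpowers y : Subgroup G) : Set G) =
    Subgroup.centralizer ({y} : Set G) by
      rw [Subgroup.zpowers_eq_closure, Subgroup.centralizer_closure]] at hC
  rw [hR] at hN
  set N := Subgroup.normalizer ((Subgroup.zpowers y : Subgroup G) : Set G) with hNdef
  set C := Subgroup.centralizer ({y} : Set G) with hCdef
  have hCN : C ≤ N := by
    rw [hCdef, ← Subgroup.centralizer_closure, ← Subgroup.zpowers_eq_closure]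
    exact Subgroup.centralizer_le_normalizer _
  -- `e` conjugates of `y` inside `⟨y⟩`
  have hidx : (C.subgroupOf N).index = e := by
    have h' := Subgroup.card_mul_index (C.subgroupOf N)
    rw [Nat.card_congr (Subgroup.subgroupOfEquivOfLe hCN).toEquiv, hC, hN] at h'
    exact Nat.eq_of_mul_eq_mul_left (hC ▸ Nat.card_pos) h'
  have hconj : ∀ q : N ⧸ C.subgroupOf N,
      (q.out : G) * y * (q.out : G)⁻¹ ∈ Subgroup.zpowers y := fun q =>
    (Subgroup.mem_normalizer_iff.mp q.out.2 y).mp (Subgroup.mem_zpowers y)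
  have hout : ∀ q q' : N ⧸ C.subgroupOf N,
      (q.out : G) * y * (q.out : G)⁻¹ = (q'.out : G) * y * (q'.out : G)⁻¹ → q = q' := by
    intro q q' hqq
    rw [← q.out_eq', ← q'.out_eq', QuotientGroup.eq, Subgroup.mem_subgroupOf]
    exact (FixedSylow.conj_eq_iff).mp hqq
  have hyP : y ∈ Subgroup.normalizer ((P : Subgroup G) : Set G) := by
    rw [hP]
    refine Subgroup.mem_normalizer_fintype fun n hn => ?_
    obtain ⟨k, rfl⟩ := Subgroup.mem_zpowers_iff.mp hn
    rw [SetLike.mem_coe, ← conj_zpow, hyx]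
    exact Subgroup.zpow_mem _ (Subgroup.npow_mem_zpowers x 3) k
  have hxP : x ∈ Subgroup.normalizer ((P : Subgroup G) : Set G) :=
    Subgroup.le_normalizer (hP ▸ Subgroup.mem_zpowers x)
  set NP := Subgroup.normalizer ((P : Subgroup G) : Set G) with hNP
  have hmem : ∀ (q : N ⧸ C.subgroupOf N) (i : ℕ),
      x ^ i * ((q.out : G) * y * (q.out : G)⁻¹) * (x ^ i)⁻¹ ∈ MulAction.stabilizer G P ∧
        IsConj y (x ^ i * ((q.out : G) * y * (q.out : G)⁻¹) * (x ^ i)⁻¹) := fun q i => by
    refine ⟨?_, isConj_iff.mpr ⟨x ^ i * (q.out : G), by group⟩⟩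
    rw [MulAction.mem_stabilizer_iff, Sylow.smul_eq_iff_mem_normalizer]
    show _ ∈ NP
    exact mul_mem (mul_mem (pow_mem hxP i) ((Subgroup.zpowers_le.mpr hyP) (hconj q)))
      (inv_mem (pow_mem hxP i))
  let ψ : (N ⧸ C.subgroupOf N) × Fin 11 →
      {u : G // u ∈ MulAction.stabilizer G P ∧ IsConj y u} :=
    fun z => ⟨_, hmem z.1 z.2⟩
  have hψ : Function.Injective ψ := by
    rintro ⟨q, i⟩ ⟨q', j⟩ he
    have he' := congrArg Subtype.val he
    simp only [ψ] at he'
    set a := (q.out : G) * y * (q.out : G)⁻¹ with ha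
    set b := (q'.out : G) * y * (q'.out : G)⁻¹ with hb
    set d := 11 - (j : ℕ) + i with hddef
    have h11 : x ^ (11 - (j : ℕ)) = (x ^ (j : ℕ))⁻¹ := by
      apply eq_inv_of_mul_eq_one_left
      rw [← pow_add, Nat.sub_add_cancel j.2.le, ← hx, pow_orderOf_eq_one]
    have hab : x ^ d * a * (x ^ d)⁻¹ = b := by
      calc x ^ d * a * (x ^ d)⁻¹
          = (x ^ (j : ℕ))⁻¹ * (x ^ (i : ℕ) * a * (x ^ (i : ℕ))⁻¹) * x ^ (j : ℕ) := by
            rw [hddef, pow_add, h11]; group
        _ = b := by rw [he']; group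
    have hya : y ∈ Subgroup.zpowers a := by
      have : Subgroup.zpowers a = Subgroup.zpowers y :=
        Subgroup.eq_of_le_of_card_ge (Subgroup.zpowers_le.mpr (hconj q)) (by
          rw [Nat.card_zpowers, Nat.card_zpowers, hy, ha,
            show (q.out : G) * y * (q.out : G)⁻¹ = MulAut.conj (q.out : G) y from rfl,
            MulEquiv.orderOf_eq, hy])
      rw [this]; exact Subgroup.mem_zpowers y
    have h0 : 11 ∣ d := by
      obtain ⟨m, hm⟩ := Subgroup.mem_zpowers_iff.mp hya
      refine x_not_normalizes hx hy hyx d ?_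
      have hxy : x ^ d * y * (x ^ d)⁻¹ = b ^ m := by rw [← hm, ← conj_zpow, hab]
      rw [hxy]
      exact Subgroup.zpow_mem _ (hconj q') m
    have hij : i = j := by
      have := i.2; have := j.2
      apply Fin.ext; omega
    subst hij
    have hqq : a = b := mul_left_cancel (mul_right_cancel he')
    exact Prod.ext (hout q q' hqq) rfl
  have hk := Nat.card_le_card_of_injective ψ hψ
  rw [Nat.card_prod, ← Subgroup.index_eq_card, hidx, Nat.card_eq_fintype_card (α := Fin 11),
    Fintype.card_fin] at hk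
  have hf := FixedSylow.card_fixed_mul (α := Sylow 11 G) P y
  rw [← hCdef, hC] at hf
  have hstab : Nat.card (MulAction.stabilizer G P) = 5 * 11 := by
    rw [Sylow.stabilizer_eq_normalizer]
    exact (Local.p11_data h P).2
  rw [hstab] at hf
  have hle := card_fixed_le hx hy hyx h
  have hm5 := Sylow.card_sylow_mod (G := G) (p := 5)
  have hn5 : Nat.card (Sylow 5 G) ∣ 1584 :=
    Sylow.card_sylow_dvd (p := 5) (a := 1) (by rw [h]; norm_num) (by norm_num)
  have hce70 : c * e ≤ 70 := by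
    have h1 : c * (11 * e) ≤ c * Nat.card {u : G // u ∈ MulAction.stabilizer G P ∧ IsConj y u} :=
      Nat.mul_le_mul_left c (by omega)
    rw [← hf] at h1
    have h2 : c * (11 * e) = 11 * (c * e) := by ring
    omega
  generalize hn : Nat.card (Sylow 5 G) = n at hce hm5 hn5
  have hcases : n = 176 ∨ n = 396 := by
    have key : ∀ n : ℕ, n ∈ Nat.divisors 1584 → n % 5 = 1 → 113 ≤ n → n = 176 ∨ n = 396 := by
      decide +kernel
    refine key n (Nat.mem_divisors.mpr ⟨hn5, by norm_num⟩) hm5 ?_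
    by_contra hlt
    have : c * e * n ≤ 70 * 112 := Nat.mul_le_mul hce70 (by omega)
    omega
  have hc5 := hc
  rcases hcases with rfl | rfl
  · have : c * e = 45 := by omega
    have he4 := Nat.le_of_dvd (by norm_num) he
    interval_cases e <;> omega
  · have hce20 : c * e = 20 := by omega
    refine ⟨rfl, ?_, by rw [hN]; exact hce20⟩
    rw [hC]
    have he4 := Nat.le_of_dvd (by norm_num) he
    interval_cases e <;> omega

include hx hy hyx in
theorem exists_inverting (h : Nat.card G = 7920) [Fact (Nat.Prime 11)] [Fact (Nat.Prime 5)] :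
    (∃ u : G, u * y * u⁻¹ = y⁻¹) ∧
      (Nat.card (Subgroup.centralizer ({y} : Set G)) = 5 → ∃ u : G, u * y * u⁻¹ = y ^ 2) := by
  classical
  obtain ⟨-, hc, hN⟩ := card_sylow5 hx hy hyx h
  set N := Subgroup.normalizer ((Subgroup.zpowers y : Subgroup G) : Set G)
  set C := Subgroup.centralizer ({y} : Set G) with hC
  have hpow : ∀ u ∈ N, ∃ r < 5, r ≠ 0 ∧ u * y * u⁻¹ = y ^ r := by
    intro u hu
    have hm := (Subgroup.mem_normalizer_iff.mp hu y).mp (Subgroup.mem_zpowers y)
    rw [mem_zpowers_iff_mem_range_orderOf, Finset.mem_image] at hm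
    obtain ⟨r, hr, hr'⟩ := hm
    rw [Finset.mem_range, hy] at hr
    refine ⟨r, hr, ?_, hr'.symm⟩
    rintro rfl
    rw [pow_zero, eq_comm, conj_eq_one_iff] at hr'
    rw [hr', orderOf_one] at hy
    omega
  choose f hf using fun u : N => hpow u u.2
  have hfib : ∀ u v : N, f u = f v → (u : G)⁻¹ * v ∈ C := fun u v e =>
    FixedSylow.conj_eq_iff.mp ((hf u).2.2.trans (by rw [e]; exact (hf v).2.2.symm))
  -- the number of values of `f` is the index of the centraliser
  haveI := Fintype.ofFinite N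
  have hcount : 20 ≤ (Finset.univ.image (fun u : N => f u)).card *
      Nat.card C := by
    calc 20 = Fintype.card N := by rw [← hN, Nat.card_eq_fintype_card]
      _ ≤ ∑ r ∈ Finset.univ.image (fun u : N => f u), Nat.card C := by
        rw [← Finset.card_univ,
          Finset.card_eq_sum_card_image (fun u : N => f u) Finset.univ]
        refine Finset.sum_le_sum fun r hr => ?_
        obtain ⟨u₀, -, hu₀⟩ := Finset.mem_image.mp hr
        rw [← Fintype.card_coe, ← Nat.card_eq_fintype_card]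
        refine Nat.card_le_card_of_injective
          (fun v => (⟨(u₀ : G)⁻¹ * (v.1 : G), hfib u₀ v.1
            (hu₀.trans (Finset.mem_filter.mp v.2).2.symm)⟩ : C)) ?_
        intro v w e
        exact Subtype.ext (Subtype.ext (mul_left_cancel (congrArg Subtype.val e)))
      _ = _ := by rw [Finset.sum_const, smul_eq_mul]
  have h2 : ∀ u : N, f u = 2 ∨ f u = 3 → (u : G) ^ 2 * y * ((u : G) ^ 2)⁻¹ = y⁻¹ := by
    intro u hu
    have hy5 : y ^ 5 = 1 := hy ▸ pow_orderOf_eq_one y
    have : (u : G) ^ 2 * y * ((u : G) ^ 2)⁻¹ = y ^ (f u * f u) := by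
      calc (u : G) ^ 2 * y * ((u : G) ^ 2)⁻¹ = u * (u * y * (u : G)⁻¹) * (u : G)⁻¹ := by
            rw [pow_two]; group
        _ = y ^ (f u * f u) := by rw [(hf u).2.2, ← conj_pow, (hf u).2.2, ← pow_mul]
    rw [this]
    apply eq_inv_of_mul_eq_one_left
    rcases hu with e | e <;> rw [e, ← pow_succ]
    · exact hy5
    · rw [show 3 * 3 + 1 = 5 * 2 by norm_num, pow_mul, hy5, one_pow]
  by_cases hex : ∃ u : N, f u = 2 ∨ f u = 3
  · obtain ⟨u, hu⟩ := hex
    refine ⟨⟨_, h2 u hu⟩, fun _ => ?_⟩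
    rcases hu with e | e
    · exact ⟨u, by rw [(hf u).2.2, e]⟩
    · refine ⟨(u : G) ^ 3, ?_⟩
      have hy5 : y ^ 5 = 1 := hy ▸ pow_orderOf_eq_one y
      calc (u : G) ^ 3 * y * ((u : G) ^ 3)⁻¹ = u * ((u : G) ^ 2 * y * ((u : G) ^ 2)⁻¹) * (u : G)⁻¹ := by
            rw [pow_succ' (u : G) 2]; group
        _ = (y ^ 3)⁻¹ := by rw [h2 u (Or.inr e), ← conj_inv, (hf u).2.2, e]
        _ = y ^ 2 := inv_eq_of_mul_eq_one_right (by rw [← pow_add]; exact hy5)
  · push Not at hex
    have hsub : Finset.univ.image (fun u : N => f u) ⊆ {1, 4} := by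
      intro r hr
      obtain ⟨u, -, rfl⟩ := Finset.mem_image.mp hr
      obtain ⟨h5, h0, -⟩ := hf u
      obtain ⟨n2, n3⟩ := hex u
      simp only [Finset.mem_insert, Finset.mem_singleton]
      omega
    have hle : (Finset.univ.image (fun u : N => f u)).card ≤ 2 :=
      (Finset.card_le_card hsub).trans Finset.card_le_two
    refine ⟨?_, fun hc5 => absurd hcount (by rw [hc5]; omega)⟩
    by_contra hno
    have hsub1 : Finset.univ.image (fun u : N => f u) ⊆ {1} := by
      intro r hr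
      obtain ⟨u, -, rfl⟩ := Finset.mem_image.mp hr
      have := hsub (Finset.mem_image_of_mem (fun u : N => f u) (Finset.mem_univ u))
      simp only [Finset.mem_insert, Finset.mem_singleton] at this ⊢
      rcases this with e | e
      · exact e
      · exfalso
        refine hno ⟨u, ?_⟩
        rw [(hf u).2.2, e]
        refine eq_inv_of_mul_eq_one_left ?_
        rw [← pow_succ]
        show y ^ 5 = 1
        exact hy ▸ pow_orderOf_eq_one y
    have := Finset.card_le_card hsub1
    rw [Finset.card_singleton] at this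
    rcases hc with e | e <;> rw [e] at hcount <;> omega

end Cfsg.Agent.Lib.RecogThree.M11.Local5
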