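import Cfsg.Agent.Lib.RecogThree.M11.Index
import Cfsg.Agent.Lib.RecogThree.M11.Cert
import Mathlib.GroupTheory.GroupAction.Quotient

/-!
A simple group of order `7920` is determined up to isomorphism: it is generated by three fixed
permutations of twelve points.
-/

set_option autoImplicit false
set_option linter.style.haveILetI false
set_option linter.unusedSectionVars false

namespace Cfsg.Agent.Lib.RecogThree.M11.Model

open Cfsg.Agent.Lib.SmallGroups Cfsg.Agent.Lib.Classif

universe u v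

/-- Generators of a group realised as the three fixed permutations. -/
structure Model (G : Type u) [Group G] where
  φ : G →* Equiv.Perm (Fin 12)
  inj : Function.Injective φ
  x : G
  y : G
  u : G
  hx : ⇑(φ x) = Cert.X
  hy : ⇑(φ y) = Cert.Y
  hu : ⇑(φ u) = Cert.U 2 4
  gen : Subgroup.closure {x, y, u} = ⊤

theorem Model.range_eq {G : Type u} [Group G] (M : Model G) :
    M.φ.range = Subgroup.closure {M.φ M.x, M.φ M.y, M.φ M.u} := by
  rw [MonoidHom.range_eq_map, ← M.gen, MonoidHom.map_closure, Set.image_insert_eq,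
    Set.image_insert_eq, Set.image_singleton]

theorem nonempty_mulEquiv {G : Type u} {G' : Type v} [Group G] [Group G'] (M : Model G)
    (M' : Model G') : Nonempty (G ≃* G') := by
  have e : M.φ.range = M'.φ.range := by
    rw [M.range_eq, M'.range_eq,
      Equiv.coe_fn_injective (M.hx.trans M'.hx.symm),
      Equiv.coe_fn_injective (M.hy.trans M'.hy.symm),
      Equiv.coe_fn_injective (M.hu.trans M'.hu.symm)]
  exact ⟨(MonoidHom.ofInjective M.inj).trans
    ((MulEquiv.subgroupCongr e).trans (MonoidHom.ofInjective M'.inj).symm)⟩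

variable {G : Type u} [Group G] [Finite G] [IsSimpleGroup G] {x y : G}

/-- No elements of order `10`, `22`, `55`, .... -/
theorem order_cases (h : Nat.card G = 7920) (g : G) : g ^ 144 = 1 ∨ g ^ 5 = 1 ∨ g ^ 11 = 1 := by
  haveI : Fact (Nat.Prime 11) := ⟨by norm_num⟩
  haveI : Fact (Nat.Prime 5) := ⟨by norm_num⟩
  obtain ⟨P⟩ := (inferInstance : Nonempty (Sylow 11 G))
  obtain ⟨x, y, hx, hy, hyx, -⟩ := Local.exists_xy h P
  have key : ∀ (p : ℕ) [Fact p.Prime] (Q : Sylow p G), Nat.card (Q : Subgroup G) = p →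
      Subgroup.centralizer ((Q : Subgroup G) : Set G) = Q → p ∣ orderOf g → g ^ p = 1 := by
    intro p _ Q hQ hC hd
    obtain ⟨b, hb, -⟩ := FirstPowerData.exists_conj_mem Q hQ hC hd
    have := FixedSylow.pow_eq_one Q hQ hb
    rwa [conj_pow, conj_eq_one_iff] at this
  by_cases h11 : 11 ∣ orderOf g
  · exact Or.inr (Or.inr (key 11 P (Local.card_p11 h P) (Local.p11_data h P).1 h11))
  by_cases h5 : 5 ∣ orderOf g
  · obtain ⟨R, hR⟩ := Local5.exists_sylow5 hy h
    obtain ⟨T⟩ := Degrees.exists_table h hx hy hyx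
    refine Or.inr (Or.inl (key 5 R (Local.card_p5 h R) ?_ h5))
    refine (Subgroup.eq_of_le_of_card_ge ?_ (le_of_eq ?_)).symm
    · rw [hR, Subgroup.zpowers_le, Subgroup.mem_centralizer_iff]
      intro a ha
      obtain ⟨k, rfl⟩ := Subgroup.mem_zpowers_iff.mp ha
      exact ((Commute.refl y).zpow_left k).eq
    · rw [hR, Nat.card_zpowers, hy, Subgroup.zpowers_eq_closure, Subgroup.centralizer_closure,
        T.cent_y]
  left
  rw [← orderOf_dvd_iff_pow_eq_one]
  have hd : orderOf g ∣ 144 * 55 := by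
    have := orderOf_dvd_natCard g
    rwa [h] at this
  refine Nat.Coprime.dvd_of_dvd_mul_right ?_ hd
  rw [show (55 : ℕ) = 5 * 11 from rfl]
  exact Nat.Coprime.mul_right ((Nat.Prime.coprime_iff_not_dvd (by norm_num)).mpr h5).symm
    ((Nat.Prime.coprime_iff_not_dvd (by norm_num)).mpr h11).symm

/-- No subgroup of order `660` contains `y` and an element raising it to its square. -/
theorem no_660 (h : Nat.card G = 7920) (hx : orderOf x = 11) (hy : orderOf y = 5)
    (hyx : y * x * y⁻¹ = x ^ 3) {u : G} (hu : u * y * u⁻¹ = y ^ 2) {K : Subgroup G}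
    (hyK : y ∈ K) (huK : u ∈ K) : Nat.card K ≠ 660 := by
  intro hK
  haveI : Fact (Nat.Prime 11) := ⟨by norm_num⟩
  haveI : Fact (Nat.Prime 5) := ⟨by norm_num⟩
  obtain ⟨R, hR⟩ := Local5.exists_sylow5 hy h
  obtain ⟨-, -, hN⟩ := Local5.card_sylow5 hx hy hyx h
  set N := Subgroup.normalizer ((R : Subgroup G) : Set G) with hNdef
  have huN : u ∈ N := by
    rw [hNdef, hR]
    refine Subgroup.mem_normalizer_fintype fun n hn => ?_
    obtain ⟨k, rfl⟩ := Subgroup.mem_zpowers_iff.mp hn
    rw [SetLike.mem_coe, ← conj_zpow, hu]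
    exact Subgroup.zpow_mem _ (Subgroup.npow_mem_zpowers y 2) k
  have hyN : y ∈ N := Subgroup.le_normalizer (hR ▸ Subgroup.mem_zpowers y)
  have hpow : ∀ k : ℕ, u ^ k * y * (u ^ k)⁻¹ = y ^ 2 ^ k := by
    intro k
    induction k with
    | zero => simp
    | succ k ih =>
      calc u ^ (k + 1) * y * (u ^ (k + 1))⁻¹ = u * (u ^ k * y * (u ^ k)⁻¹) * u⁻¹ := by
            rw [pow_succ']; group
        _ = y ^ 2 ^ (k + 1) := by rw [ih, ← conj_pow, hu, ← pow_mul, pow_succ']
  have h4 : 4 ∣ orderOf u := by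
    have h1 := hpow (orderOf u)
    rw [pow_orderOf_eq_one, one_mul, inv_one, mul_one] at h1
    have h' : y ^ 1 = y ^ 2 ^ orderOf u := by rw [pow_one]; exact h1
    rw [pow_eq_pow_iff_modEq, hy] at h'
    have hk : ∀ k : Fin 4, 1 ≡ 2 ^ k.1 [MOD 5] → k.1 = 0 := by decide +kernel
    have h2 : 2 ^ orderOf u ≡ 2 ^ (orderOf u % 4) [MOD 5] := by
      conv_lhs => rw [← Nat.div_add_mod (orderOf u) 4, pow_add, pow_mul]
      simpa using Nat.ModEq.mul_right (2 ^ (orderOf u % 4))
        ((by decide +kernel : 2 ^ 4 ≡ 1 [MOD 5]).pow (orderOf u / 4))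
    exact Nat.dvd_of_mod_eq_zero (hk ⟨orderOf u % 4, Nat.mod_lt _ (by norm_num)⟩ (h'.trans h2))
  have h20 : 20 ∣ Nat.card ↥(K ⊓ N) :=
    Nat.Coprime.mul_dvd_of_dvd_of_dvd (m := 4) (n := 5) (by norm_num)
      (h4.trans (Subgroup.orderOf_dvd_natCard _ ⟨huK, huN⟩))
      (hy ▸ Subgroup.orderOf_dvd_natCard _ ⟨hyK, hyN⟩)
  have hNc : Nat.card N = 20 := by rw [hNdef, hR, hN]
  have hle : N ≤ K := by
    have := Subgroup.eq_of_le_of_card_ge (inf_le_right : K ⊓ N ≤ N)
      (by rw [hNc]; exact Nat.le_of_dvd Nat.card_pos h20)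
    exact this ▸ inf_le_left
  have hRK : (R : Subgroup G) ≤ K := Subgroup.le_normalizer.trans hle
  have hk : Nat.card (Sylow 5 K) =
      (Subgroup.normalizer (((R : Subgroup G).subgroupOf K : Subgroup K) : Set K)).index :=
    Sylow.card_eq_index_normalizer (R.subtype hRK)
  rw [← Subgroup.subgroupOf_normalizer_eq hRK, ← hNdef] at hk
  have hidx := Subgroup.card_mul_index (N.subgroupOf K)
  rw [Nat.card_congr (Subgroup.subgroupOfEquivOfLe hle).toEquiv, hNc, hK, ← hk] at hidx
  have hmod := SmallGroups.Sylow.card_sylow_mod (G := K) (p := 5)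
  omega

theorem exists_model (h : Nat.card G = 7920) : Nonempty (Model G) := by
  classical
  haveI : Fact (Nat.Prime 11) := ⟨by norm_num⟩
  haveI : Fact (Nat.Prime 5) := ⟨by norm_num⟩
  obtain ⟨P⟩ := (inferInstance : Nonempty (Sylow 11 G))
  obtain ⟨x, y, hx, hy, hyx, -⟩ := Local.exists_xy h P
  obtain ⟨T⟩ := Degrees.exists_table h hx hy hyx
  obtain ⟨u₀, hu₀⟩ := (Local5.exists_inverting hx hy hyx h).2 T.cent_y
  obtain ⟨H, hxH, hyH, hH⟩ := Index.exists_index_twelve h hx hy hyx
  haveI := Fintype.ofFinite (G ⧸ H)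
  have hX : Nat.card (G ⧸ H) = 12 := by rw [← hH]; rfl
  have hHc : Nat.card H = 660 := by
    have := Subgroup.card_mul_index H
    rw [hH, h] at this
    omega
  set π := MulAction.toPermHom G (G ⧸ H) with hπ
  have hπinj : Function.Injective π := by
    rw [← MonoidHom.ker_eq_bot_iff]
    refine ((MonoidHom.normal_ker π).eq_bot_or_eq_top).resolve_right fun htop => ?_
    have hle : (⊤ : Subgroup G) ≤ H := by
      intro g _
      have : π g = 1 := MonoidHom.mem_ker.mp (htop ▸ Subgroup.mem_top g)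
      have h' := DFunLike.congr_fun this (QuotientGroup.mk (1 : G))
      rw [hπ, MulAction.toPermHom_apply, MulAction.toPerm_apply, Equiv.Perm.one_apply,
        MulAction.Quotient.smul_mk, smul_eq_mul, mul_one, QuotientGroup.eq, mul_one] at h'
      simpa using h'
    rw [top_le_iff.mp hle, Subgroup.index_top] at hH
    norm_num at hH
  set o : G ⧸ H := QuotientGroup.mk (1 : G) with ho
  have hfix : ∀ g ∈ H, g • o = o := fun g hg => by
    rw [ho, MulAction.Quotient.smul_mk, smul_eq_mul, mul_one, QuotientGroup.eq, mul_one]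
    exact inv_mem hg
  have hmem : ∀ g : G, g • o = o → g ∈ H := fun g hg => by
    rw [ho, MulAction.Quotient.smul_mk, smul_eq_mul, mul_one, QuotientGroup.eq, mul_one] at hg
    simpa using hg
  -- a point moved by `x`
  obtain ⟨q, hq⟩ : ∃ q : G ⧸ H, x • q ≠ q := by
    by_contra hall
    push Not at hall
    have : π x = π 1 := Equiv.ext fun q => by rw [map_one]; exact hall q
    have := hπinj this
    rw [this, orderOf_one] at hx
    omega
  have hx11 : x ^ 11 = 1 := hx ▸ pow_orderOf_eq_one x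
  have hxmod : ∀ i : ℕ, x ^ i = x ^ (i % 11) := fun i => by rw [← hx, pow_mod_orderOf]
  have hfree : ∀ i : ℕ, x ^ i • q = q → 11 ∣ i := by
    intro i hi
    by_contra hd
    obtain ⟨m, hm⟩ := exists_pow_eq_self_of_coprime (x := x) (n := i)
      (by rw [hx]; exact ((Nat.Prime.coprime_iff_not_dvd (by norm_num)).mpr hd).symm)
    refine hq ?_
    rw [← hm]
    clear hm
    induction m with
    | zero => simp
    | succ m ih => rw [pow_succ, mul_smul, hi, ih]
  let f : Fin 12 → G ⧸ H := fun i => if i.1 = 11 then o else x ^ i.1 • q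
  have hxo : ∀ i : ℕ, x ^ i • o = o := fun i => hfix _ (pow_mem hxH i)
  have hqo : ∀ i : ℕ, x ^ i • q ≠ o := fun i e => hq (by
    have : q = o := MulAction.injective (x ^ i) (e.trans (hxo i).symm)
    rw [this]; exact hfix x hxH)
  have hcancel : ∀ i j : ℕ, i < 11 → j < 11 → x ^ i • q = x ^ j • q → i = j := by
    intro i j hi hj e
    have h1 : x ^ (11 - j + i) • q = q := by
      rw [pow_add, mul_smul, e, ← mul_smul, ← pow_add, Nat.sub_add_cancel hj.le, hx11, one_smul]
    have := hfree _ h1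
    omega
  have hf : Function.Bijective f := by
    rw [Nat.bijective_iff_injective_and_card]
    refine ⟨fun i j e => ?_, by rw [Nat.card_eq_fintype_card, Fintype.card_fin, hX]⟩
    simp only [f] at e
    apply Fin.ext
    split_ifs at e with hi hj hj
    · omega
    · exact absurd e.symm (hqo _)
    · exact absurd e (hqo _)
    · exact hcancel _ _ (by omega) (by omega) e
  obtain ⟨k, hk11, hk⟩ : ∃ k < 11, y • q = x ^ k • q := by
    obtain ⟨i, hi⟩ := hf.2 (y • q)
    simp only [f] at hi
    split_ifs at hi with hi'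
    · exact absurd ((MulAction.injective y (hi.symm.trans (hfix y hyH).symm)))
        (by simpa using hqo 0)
    · exact ⟨i, by omega, hi.symm⟩
  -- a second fixed point of `y`
  set p₀ := x ^ (5 * k) • q with hp₀
  have hyp₀ : y • p₀ = p₀ := by
    rw [hp₀, ← mul_smul, Local5.y_mul_pow hyx, mul_smul, hk, ← mul_smul, ← pow_add, hxmod,
      hxmod (5 * k)]
    congr 2
    omega
  let e' : Fin 12 → G ⧸ H := fun i => if i.1 = 11 then o else x ^ i.1 • p₀
  have he' : Function.Bijective e' := by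
    rw [Nat.bijective_iff_injective_and_card]
    refine ⟨fun i j e => ?_, by rw [Nat.card_eq_fintype_card, Fintype.card_fin, hX]⟩
    simp only [e', hp₀, ← mul_smul, ← pow_add] at e
    apply Fin.ext
    split_ifs at e with hi hj hj
    · omega
    · exact absurd e.symm (hqo _)
    · exact absurd e (hqo _)
    · rw [hxmod, hxmod (j.1 + _)] at e
      have := hcancel _ _ (Nat.mod_lt _ (by norm_num)) (Nat.mod_lt _ (by norm_num)) e
      omega
  let e : Fin 12 ≃ G ⧸ H := Equiv.ofBijective e' he'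
  let φ : G →* Equiv.Perm (Fin 12) := e.symm.permCongrHom.toMonoidHom.comp π
  have hφ : ∀ (g : G) (i : Fin 12), e ((φ g) i) = g • e i := fun g i => by
    show e (e.symm (g • e i)) = _
    rw [Equiv.apply_symm_apply]
  have hφinj : Function.Injective φ := e.symm.permCongrHom.injective.comp hπinj
  have heval : ∀ i : Fin 12, e i = if i.1 = 11 then o else x ^ i.1 • p₀ := fun i => rfl
  have e11 : e 11 = o := by rw [heval]; rfl
  have e0 : e 0 = p₀ := by rw [heval]; simp
  have hXv : ∀ i : Fin 12, if i.1 = 11 then (Cert.X i).1 = 11 else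
      (Cert.X i).1 ≠ 11 ∧ (Cert.X i).1 = (i.1 + 1) % 11 := by decide +kernel
  have hYv : ∀ i : Fin 12, if i.1 = 11 then (Cert.Y i).1 = 11 else
      (Cert.Y i).1 ≠ 11 ∧ (Cert.Y i).1 = (3 * i.1) % 11 := by decide +kernel
  have hφx : ⇑(φ x) = Cert.X := by
    funext i
    apply e.injective
    have hv := hXv i
    rw [hφ, heval i, heval (Cert.X i)]
    split_ifs at hv ⊢ with hi
    · exact hfix x hxH
    · exact absurd (by assumption) hv.1
    · rw [hv.2, ← mul_smul, ← pow_succ', hxmod]
  have hφy : ⇑(φ y) = Cert.Y := by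
    funext i
    apply e.injective
    have hv := hYv i
    rw [hφ, heval i, heval (Cert.Y i)]
    split_ifs at hv ⊢ with hi
    · exact hfix y hyH
    · exact absurd (by assumption) hv.1
    · rw [hv.2, ← mul_smul, Local5.y_mul_pow hyx, mul_smul, hyp₀, hxmod]
  have hφyk : ∀ k : ℕ, ⇑(φ (y ^ k)) = Cert.Y^[k] := fun k => by
    rw [map_pow, Equiv.Perm.coe_pow, hφy]
  have hu₀H : u₀ ∉ H := fun hm => no_660 h hx hy hyx hu₀ hyH hm hHc
  -- behaviour of `u₀` on the two fixed points
  have huy : ∀ (u : G), u * y * u⁻¹ = y ^ 2 → ∀ i, φ u (Cert.Y i) = Cert.Y^[2] (φ u i) := by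
    intro u hu i
    have : φ (u * y) = φ (y ^ 2 * u) := by rw [← hu]; group
    have := DFunLike.congr_fun this i
    rwa [map_mul, map_mul, Equiv.Perm.mul_apply, Equiv.Perm.mul_apply, hφy, hφyk] at this
  have hY2 : ∀ i : Fin 12, Cert.Y^[2] i = i → i = 0 ∨ i = 11 := by decide +kernel
  have hu11 : φ u₀ 11 = 0 := by
    have h' := huy u₀ hu₀ 11
    rw [show Cert.Y 11 = 11 from rfl] at h'
    refine (hY2 _ h'.symm).resolve_right fun e1 => hu₀H (hmem u₀ ?_)
    rw [← e11, ← hφ, e1]
  have hu0 : φ u₀ 0 = 11 := by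
    have h' := huy u₀ hu₀ 0
    rw [show Cert.Y 0 = 0 from rfl] at h'
    refine (hY2 _ h'.symm).resolve_left fun e1 => ?_
    exact absurd ((φ u₀).injective (e1.trans hu11.symm)) (by decide)
  -- normalise the image of `1`
  have ha0 : φ u₀ 1 ≠ 0 := fun e1 => absurd ((φ u₀).injective (e1.trans hu11.symm)) (by decide)
  have ha11 : φ u₀ 1 ≠ 11 := fun e1 => absurd ((φ u₀).injective (e1.trans hu0.symm)) (by decide)
  obtain ⟨k', hk'⟩ := Cert.orbit_one _ ha0 ha11
  set u := y ^ k'.1 * u₀ with hudef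
  have hu : u * y * u⁻¹ = y ^ 2 := by
    calc u * y * u⁻¹ = y ^ k'.1 * (u₀ * y * u₀⁻¹) * (y ^ k'.1)⁻¹ := by rw [hudef]; group
      _ = y ^ 2 := by rw [hu₀, ← pow_add, add_comm, pow_add]; group
  have hφu' : ∀ i, φ u i = Cert.Y^[k'.1] (φ u₀ i) := fun i => by
    rw [hudef, map_mul, Equiv.Perm.mul_apply, hφyk]
  have hit : ∀ (n : ℕ), Cert.Y^[n] 11 = 11 ∧ Cert.Y^[n] 0 = 0 := fun n =>
    ⟨Function.iterate_fixed (by rfl) n, Function.iterate_fixed (by rfl) n⟩
  have hc : φ u 1 = 1 ∨ φ u 1 = 2 := by rw [hφu']; exact hk'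
  have hU0 : φ u 0 = 11 := by rw [hφu', hu0, (hit _).1]
  have hU11 : φ u 11 = 0 := by rw [hφu', hu11, (hit _).2]
  set c := φ u 1 with hcdef
  set d := φ u 2 with hddef
  have hφu : ⇑(φ u) = Cert.U c d := by
    have hiter : ∀ (n : ℕ) i, φ u (Cert.Y^[n] i) = Cert.Y^[2 * n] (φ u i) := by
      intro n
      induction n with
      | zero => intro i; rfl
      | succ n ih =>
        intro i
        rw [Function.iterate_succ_apply', huy u hu, ih, ← Function.iterate_add_apply]
        congr 1
        ring_nf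
    funext i
    rcases Cert.U_table i with rfl | rfl | ⟨n, rfl | rfl⟩
    · exact hU0
    · exact hU11
    · rw [hiter, (Cert.U_eval c d n).1, hcdef]
    · rw [hiter, (Cert.U_eval c d n).2, hddef]
  have hgen : ∀ x' u' : G, Subgroup.zpowers x' = Subgroup.zpowers x → u' ∉ H →
      u' * y * u'⁻¹ = y ^ 2 → Subgroup.closure {x', y, u'} = ⊤ := by
    intro x' u' hx' hu'H hu'
    set K := Subgroup.closure {x', y, u'}
    have hx'K : x' ∈ K := Subgroup.subset_closure (by simp)
    have hyK : y ∈ K := Subgroup.subset_closure (by simp)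
    have huK : u' ∈ K := Subgroup.subset_closure (by simp)
    have hxK : x ∈ K := by
      have : Subgroup.zpowers x' ≤ K := Subgroup.zpowers_le.mpr hx'K
      exact this (hx' ▸ Subgroup.mem_zpowers x)
    -- `K` is transitive
    have htrans : ∀ r : G ⧸ H, r ∈ MulAction.orbit K o := by
      have hmove : ∀ g ∈ K, ∀ r ∈ MulAction.orbit K o, g • r ∈ MulAction.orbit K o := by
        rintro g hg _ ⟨a, rfl⟩
        exact ⟨⟨g, hg⟩ * a, mul_smul (⟨g, hg⟩ : K) a o⟩
      have huo : u' • o ≠ o := fun e1 => hu'H (hmem u' e1)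
      obtain ⟨j, hj⟩ := hf.2 (u' • o)
      simp only [f] at hj
      split_ifs at hj with hj'
      · exact absurd hj.symm huo
      have hjo : x ^ j.1 • q ∈ MulAction.orbit K o := hj ▸ hmove u' huK o (MulAction.mem_orbit_self o)
      intro r
      obtain ⟨i, rfl⟩ := hf.2 r
      simp only [f]
      split_ifs with hi
      · exact MulAction.mem_orbit_self o
      · have e1 : x ^ i.1 • q = x ^ (i.1 + (11 - j.1)) • x ^ j.1 • q := by
          rw [← mul_smul, ← pow_add, show i.1 + (11 - j.1) + j.1 = i.1 + 11 by omega, pow_add,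
            hx11, mul_one]
        rw [e1]
        exact hmove _ (pow_mem hxK _) _ hjo
    have horb : Nat.card (MulAction.orbit K o) = 12 := by
      rw [show (MulAction.orbit K o) = Set.univ from Set.eq_univ_of_forall htrans,
        Nat.card_coe_set_eq, Set.ncard_univ, hX]
    have hstab := Nat.card_congr (MulAction.orbitProdStabilizerEquivGroup K o)
    rw [Nat.card_prod, horb] at hstab
    have hS : 55 ∣ Nat.card (MulAction.stabilizer K o) := by
      refine Nat.Coprime.mul_dvd_of_dvd_of_dvd (m := 5) (n := 11) (by norm_num) ?_ ?_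
      · have := Subgroup.orderOf_dvd_natCard (MulAction.stabilizer K o) (x := ⟨y, hyK⟩)
          (MulAction.mem_stabilizer_iff.mpr (hfix y hyH))
        rwa [Subgroup.orderOf_mk, hy] at this
      · have := Subgroup.orderOf_dvd_natCard (MulAction.stabilizer K o) (x := ⟨x, hxK⟩)
          (MulAction.mem_stabilizer_iff.mpr (hfix x hxH))
        rwa [Subgroup.orderOf_mk, hx] at this
    by_contra htop
    have hKd : 660 ∣ Nat.card K := by
      rw [← hstab, show (660 : ℕ) = 12 * 55 from rfl]
      exact Nat.mul_dvd_mul_left 12 hS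
    have hidx := Subgroup.card_mul_index K
    rw [h] at hidx
    obtain ⟨m, hm⟩ := hKd
    have hm12 : m * K.index = 12 := by rw [hm] at hidx; nlinarith
    have hi1 : K.index ≠ 1 := fun e1 => htop (Subgroup.index_eq_one.mp e1)
    have hcore : K.normalCore = ⊥ :=
      ((Subgroup.normalCore_normal K).eq_bot_or_eq_top).resolve_right fun e1 =>
        htop (top_le_iff.mp (e1 ▸ Subgroup.normalCore_le K))
    have hfac : 7920 ∣ K.index.factorial := by
      have hinj : Function.Injective (MulAction.toPermHom G (G ⧸ K)) := by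
        rw [← MonoidHom.ker_eq_bot_iff, ← Subgroup.normalCore_eq_ker, hcore]
      haveI := Fintype.ofFinite (G ⧸ K)
      have := Subgroup.card_dvd_of_injective _ hinj
      rw [h, Nat.card_perm] at this
      exact this
    have hle : 11 ≤ K.index := by
      by_contra hlt
      have h11 : 11 ∣ K.index.factorial := Nat.dvd_trans (by norm_num) hfac
      rw [Nat.Prime.dvd_factorial (by norm_num)] at h11
      omega
    have : m = 1 := by
      rcases Nat.lt_or_ge m 2 with hlt | hge
      · rcases Nat.eq_zero_or_pos m with e1 | e1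
        · rw [e1, zero_mul] at hm12; omega
        · omega
      · nlinarith
    exact no_660 h hx hy hyx hu' hyK huK (by rw [hm, this, mul_one])
  have hu'H : u ∉ H := fun hm => by
    have h1 : e (φ u 11) = o := by rw [hφ, e11, hfix u hm]
    rw [hU11, ← e11] at h1
    exact absurd (e.injective h1) (by decide)
  have hinjU : ∀ i j, Cert.U c d i = Cert.U c d j → i = j := fun i j e1 => by
    rw [← hφu] at e1; exact (φ u).injective e1
  rcases Cert.search c d hc hinjU with ⟨hc2, hd4⟩ | ⟨hc2, hd5⟩ | ⟨w, hw, hbad⟩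
  · refine ⟨⟨φ, hφinj, x, y, u, hφx, hφy, by rw [hφu, hc2, hd4], hgen x u rfl hu'H hu⟩⟩
  · let ν : Equiv.Perm (Fin 12) := ⟨Cert.N, Cert.N, fun i => (Cert.flip i).2.2.2,
      fun i => (Cert.flip i).2.2.2⟩
    let ψ : G →* Equiv.Perm (Fin 12) := (MulAut.conj ν).toMonoidHom.comp φ
    have hψ : ∀ g i, ψ g i = Cert.N (φ g (Cert.N i)) := fun g i => rfl
    have hY' : ⇑(ψ y) = Cert.Y := funext fun i => by
      rw [hψ, hφy]; exact (Cert.flip i).2.2.1
    have hX' : ⇑(ψ x⁻¹) = Cert.X := funext fun i => by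
      have h' := (Cert.flip i).2.1
      have hN : ∀ j, Cert.N (Cert.N j) = j := fun j => (Cert.flip j).2.2.2
      rw [hψ]
      rw [map_inv, Equiv.Perm.inv_def]
      apply (congrArg Cert.N ((Equiv.symm_apply_eq (φ x)).mpr (?_ : Cert.N i = φ x (Cert.N (Cert.X i))))).trans
      · exact hN _
      · rw [hφx]
        have := congrArg Cert.N ((Cert.flip (Cert.X i)).2.2.2)
        revert i
        decide +kernel
    have hU' : ⇑(ψ (y ^ 3 * u)) = Cert.U 2 4 := funext fun i => by
      rw [map_mul, map_pow, Equiv.Perm.mul_apply, Equiv.Perm.coe_pow, hY', hψ, hφu, hc2, hd5]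
      exact (Cert.flip i).1
    refine ⟨⟨ψ, (MulAut.conj ν).injective.comp hφinj, x⁻¹, y, y ^ 3 * u, hX', hY', hU',
      hgen x⁻¹ (y ^ 3 * u) Subgroup.zpowers_inv (fun hm => hu'H ?_) ?_⟩⟩
    · have := H.mul_mem (H.inv_mem (H.pow_mem hyH 3)) hm
      rwa [inv_mul_cancel_left] at this
    · calc y ^ 3 * u * y * (y ^ 3 * u)⁻¹ = y ^ 3 * (u * y * u⁻¹) * (y ^ 3)⁻¹ := by group
        _ = y ^ 2 := by rw [hu, ← pow_add, add_comm, pow_add]; group
  · exfalso
    have himg : ∃ g : G, ⇑(φ g) = w := by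
      simp only [Cert.words, List.mem_cons, List.not_mem_nil, or_false] at hw
      rcases hw with rfl | rfl | rfl | rfl | rfl
      · exact ⟨x * u * y, by rw [map_mul, map_mul, Equiv.Perm.coe_mul, Equiv.Perm.coe_mul, hφx, hφu, hφy]; rfl⟩
      · exact ⟨x * y * u, by rw [map_mul, map_mul, Equiv.Perm.coe_mul, Equiv.Perm.coe_mul, hφx, hφu, hφy]; rfl⟩
      · exact ⟨x * u, by rw [map_mul, Equiv.Perm.coe_mul, hφx, hφu]⟩
      · exact ⟨x * u * y * y, by
          rw [map_mul, map_mul, map_mul, Equiv.Perm.coe_mul, Equiv.Perm.coe_mul, Equiv.Perm.coe_mul,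
            hφx, hφu, hφy]; rfl⟩
      · exact ⟨x * x * u, by rw [map_mul, map_mul, Equiv.Perm.coe_mul, Equiv.Perm.coe_mul, hφx, hφu]; rfl⟩
    obtain ⟨g, rfl⟩ := himg
    obtain ⟨h1, h2, h3⟩ := hbad
    have hp : ∀ n, g ^ n = 1 → (⇑(φ g))^[n] = id := fun n e1 => by
      rw [← Equiv.Perm.coe_pow, ← map_pow, e1, map_one]; rfl
    rcases order_cases h g with e1 | e1 | e1
    · exact h1 (hp _ e1)
    · exact h2 (hp _ e1)
    · exact h3 (hp _ e1)

/-- Simple groups of order `7920` are isomorphic. -/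
theorem unique {G' : Type v} [Group G'] [Finite G'] [IsSimpleGroup G'] (h : Nat.card G = 7920)
    (h' : Nat.card G' = 7920) : Nonempty (G ≃* G') := by
  obtain ⟨M⟩ := exists_model h
  obtain ⟨M'⟩ := exists_model h'
  exact nonempty_mulEquiv M M'

end Cfsg.Agent.Lib.RecogThree.M11.Model
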