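import Cfsg.Agent.Lib.SharpTransitive
import Cfsg.Agent.Lib.SmallGroups.Sylow

/-!
In a sharply 4-transitive group on eleven points a Sylow 3-subgroup fixes exactly two points and
its normaliser is the stabiliser of that pair, of order `144`.
-/

set_option autoImplicit false
set_option linter.style.haveILetI false
set_option linter.unusedSectionVars false

namespace Cfsg.Agent.Lib.RecogThree.M11.Sylow3

open MulAction

universe u v

variable {G : Type u} [Group G] [Finite G] {α : Type v} [MulAction G α] [Finite α]

/-- The stabiliser of a tuple has order `|G|` over the number of tuples. -/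
theorem card_stab {k : ℕ} [IsMultiplyPretransitive G α k] (z : Fin k ↪ α) :
    Nat.card (stabilizer G z) * (Nat.card α).descFactorial k = Nat.card G := by
  classical
  letI := Fintype.ofFinite α
  rw [show (Nat.card α).descFactorial k = (stabilizer G z).index by
    rw [MulAction.index_stabilizer_of_transitive G z, Nat.card_eq_fintype_card,
      Nat.card_eq_fintype_card, Fintype.card_embedding_eq, Fintype.card_fin]]
  exact Subgroup.card_mul_index _

theorem normalizer_card (hα : Nat.card α = 11) (h : SharpTransitive.Sharp G α 4)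
    (P : Sylow 3 G) :
    Nat.card (Subgroup.normalizer ((P : Subgroup G) : Set G)) = 144 := by
  classical
  letI := Fintype.ofFinite α
  haveI : Fact (Nat.Prime 3) := ⟨Nat.prime_three⟩
  letI := Fintype.ofFinite G
  have hG : Nat.card G = 7920 := by
    rw [SharpTransitive.card_eq h (by omega), hα]; decide
  haveI := h.1
  haveI h2t : IsMultiplyPretransitive G α 2 := isMultiplyPretransitive_of_le (n := 4) (by norm_num) (by omega)
  haveI h3t : IsMultiplyPretransitive G α 3 := isMultiplyPretransitive_of_le (n := 4) (by norm_num) (by omega)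
  have hfour : ∀ (g : G) (p : Fin 4 → α), Function.Injective p → (∀ i, g • p i = p i) → g = 1 := by
    intro g p hp hg
    have hm : g ∈ stabilizer G (⟨p, hp⟩ : Fin 4 ↪ α) :=
      mem_stabilizer_iff.mpr (Function.Embedding.ext fun i => hg i)
    rwa [h.2, Subgroup.mem_bot] at hm
  -- a nontrivial element fixes at most three points
  have hfix3 : ∀ g : G, g ≠ 1 → (Finset.univ.filter fun c : α => g • c = c).card ≤ 3 := by
    intro g hg
    by_contra hlt
    obtain ⟨S, hS, hS4⟩ := Finset.exists_subset_card_eq (s := Finset.univ.filter fun c : α => g • c = c)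
      (n := 4) (by omega)
    let e := (S.equivFinOfCardEq hS4).symm
    exact hg (hfour g (fun i => (e i).1) (Subtype.val_injective.comp e.injective)
      fun i => (Finset.mem_filter.mp (hS (e i).2)).2)
  have hPc : Nat.card (P : Subgroup G) = 9 :=
    SmallGroups.Sylow.card_sylow_eq P (a := 2) (m := 880) (by rw [hG]; norm_num) (by norm_num)
  -- fixed points of `P`
  set Fx : Finset α := Finset.univ.filter fun c => ∀ g ∈ (P : Subgroup G), g • c = c with hFx
  have hFxmod : Fx.card % 3 = 2 := by
    have hmod := P.isPGroup'.card_modEq_card_fixedPoints α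
    have : Nat.card (fixedPoints (P : Subgroup G) α) = Fx.card := by
      rw [← Fintype.card_coe, ← Nat.card_eq_fintype_card]
      exact Nat.card_congr (Equiv.subtypeEquivRight fun c => by
        simp only [hFx, Finset.mem_filter, Finset.mem_univ, true_and]
        exact ⟨fun hc g hg => hc ⟨g, hg⟩, fun hc g => hc g g.2⟩)
    rw [this, hα] at hmod
    unfold Nat.ModEq at hmod
    omega
  obtain ⟨g₀, hg₀, hg₀1⟩ : ∃ g ∈ (P : Subgroup G), g ≠ 1 := by
    by_contra hall
    push Not at hall
    rw [(Subgroup.eq_bot_iff_forall _).mpr hall, Subgroup.card_bot] at hPc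
    omega
  have hFx2 : Fx.card = 2 := by
    have h3 : Fx.card ≤ 3 := (Finset.card_le_card fun c hc => by
      simp only [hFx, Finset.mem_filter, Finset.mem_univ, true_and] at hc ⊢
      exact hc g₀ hg₀).trans (hfix3 g₀ hg₀1)
    omega
  -- a nontrivial element of `P` fixes only those two points
  have honly : ∀ g ∈ (P : Subgroup G), g ≠ 1 → ∀ c, g • c = c → c ∈ Fx := by
    intro g hg hg1 c hc
    by_contra hcF
    set S : Finset α := Finset.univ.filter fun d => g • d = d with hS
    have hsub : insert c Fx ⊆ S := by
      intro d hd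
      simp only [hS, Finset.mem_filter, Finset.mem_univ, true_and]
      rcases Finset.mem_insert.mp hd with rfl | hd
      · exact hc
      · exact (Finset.mem_filter.mp hd).2 g hg
    have h3 := Finset.card_le_card hsub
    rw [Finset.card_insert_of_notMem hcF, hFx2] at h3
    have hmod := (P.isPGroup'.to_le (Subgroup.zpowers_le.mpr hg)).card_modEq_card_fixedPoints α
    have : Nat.card (fixedPoints (Subgroup.zpowers g) α) = S.card := by
      rw [← Fintype.card_coe, ← Nat.card_eq_fintype_card]
      refine Nat.card_congr (Equiv.subtypeEquivRight fun d => ?_)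
      simp only [hS, Finset.mem_filter, Finset.mem_univ, true_and]
      constructor
      · exact fun hd => hd ⟨g, Subgroup.mem_zpowers g⟩
      · intro hd u
        exact (Subgroup.zpowers_le.mpr (mem_stabilizer_iff.mpr hd : g ∈ stabilizer G d)) u.2
    rw [this, hα] at hmod
    unfold Nat.ModEq at hmod
    have := hfix3 g hg1
    rw [← hS] at this
    omega
  obtain ⟨a, b, hab, hFab⟩ := Finset.card_eq_two.mp hFx2
  let z : Fin 2 ↪ α := ⟨![a, b], by
    intro i j e; fin_cases i <;> fin_cases j <;> simp at e ⊢ <;> first | exact hab e | exact hab e.symm⟩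
  set K : Subgroup G := stabilizer G z with hK
  have hKmem : ∀ g : G, g ∈ K ↔ g • a = a ∧ g • b = b := by
    intro g
    rw [hK, mem_stabilizer_iff]
    constructor
    · exact fun e => ⟨DFunLike.congr_fun e 0, DFunLike.congr_fun e 1⟩
    · rintro ⟨e1, e2⟩
      ext i; fin_cases i
      · exact e1
      · exact e2
  have hKc : Nat.card K = 72 := by
    have := card_stab (G := G) z
    rw [hα, hG, show Nat.descFactorial 11 2 = 110 by decide] at this
    rw [hK]; omega
  set KF : Finset G := Finset.univ.filter (· ∈ K) with hKF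
  set F : Finset G := Finset.univ.filter fun g => g ∈ K ∧ g ≠ 1 ∧
    ∀ c, g • c = c → c = a ∨ c = b with hF
  have hPK : (P : Subgroup G) ≤ K := fun g hg => by
    rw [hKmem]
    have ha : a ∈ Fx := by rw [hFab]; simp
    have hb : b ∈ Fx := by rw [hFab]; simp
    exact ⟨(Finset.mem_filter.mp ha).2 g hg, (Finset.mem_filter.mp hb).2 g hg⟩
  -- `F` has eight elements
  have hF8 : F.card = 8 := by
    set Ω : Finset α := Finset.univ \ {a, b}
    have hΩ : Ω.card = 9 := by
      rw [Finset.card_univ_diff, ← Nat.card_eq_fintype_card, hα, Finset.card_pair hab]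
    let A : α → Finset G := fun c => Finset.univ.filter fun g => g ∈ K ∧ g ≠ 1 ∧ g • c = c
    have hA : ∀ c ∈ Ω, (A c).card = 7 := by
      intro c hc
      simp only [Ω, Finset.mem_sdiff, Finset.mem_univ, true_and, Finset.mem_insert,
        Finset.mem_singleton, not_or] at hc
      let z3 : Fin 3 ↪ α := ⟨![a, b, c], by
        intro i j e; fin_cases i <;> fin_cases j <;> simp at e ⊢ <;>
          first | exact hab e | exact hab e.symm | exact hc.1 e | exact hc.1 e.symm | exact hc.2 e | exact hc.2 e.symm⟩
      have h8 : Nat.card (stabilizer G z3) = 8 := by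
        have := card_stab (G := G) z3
        rw [hα, hG, show Nat.descFactorial 11 3 = 990 by decide] at this
        omega
      have heq : A c = (Finset.univ.filter (· ∈ stabilizer G z3)).erase 1 := by
        ext g
        simp only [A, Finset.mem_filter, Finset.mem_univ, true_and, Finset.mem_erase, hKmem,
          mem_stabilizer_iff]
        constructor
        · rintro ⟨⟨e1, e2⟩, e3, e4⟩
          refine ⟨e3, ?_⟩
          ext i; fin_cases i
          · exact e1
          · exact e2
          · exact e4
        · rintro ⟨e3, e⟩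
          exact ⟨⟨DFunLike.congr_fun e 0, DFunLike.congr_fun e 1⟩, e3, DFunLike.congr_fun e 2⟩
      rw [heq, Finset.card_erase_of_mem (by simp), ← Fintype.card_subtype,
        ← Nat.card_eq_fintype_card, h8]
    have hdisj : (Ω : Set α).PairwiseDisjoint A := by
      intro c hc d hd hcd
      rw [Function.onFun, Finset.disjoint_left]
      intro g hgc hgd
      simp only [A, Finset.mem_filter, Finset.mem_univ, true_and] at hgc hgd
      simp only [Ω, Finset.mem_coe, Finset.mem_sdiff, Finset.mem_univ, true_and, Finset.mem_insert,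
        Finset.mem_singleton, not_or] at hc hd
      obtain ⟨e1, e2⟩ := (hKmem g).mp hgc.1
      have hle := hfix3 g hgc.2.1
      have hsub : ({a, b, c, d} : Finset α) ⊆ Finset.univ.filter fun x => g • x = x := by
        intro x hx
        simp only [Finset.mem_insert, Finset.mem_singleton] at hx
        simp only [Finset.mem_filter, Finset.mem_univ, true_and]
        rcases hx with rfl | rfl | rfl | rfl
        · exact e1
        · exact e2
        · exact hgc.2.2
        · exact hgd.2.2
      have h4 := Finset.card_le_card hsub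
      rw [Finset.card_insert_of_notMem (by simp [hab, Ne.symm hc.1, Ne.symm hd.1]),
        Finset.card_insert_of_notMem (by simp [Ne.symm hc.2, Ne.symm hd.2]),
        Finset.card_pair hcd] at h4
      omega
    have hsplit : KF.erase 1 = F ∪ Ω.biUnion A := by
      ext g
      simp only [hKF, hF, A, Ω, Finset.mem_erase, Finset.mem_filter, Finset.mem_univ, true_and,
        Finset.mem_union, Finset.mem_biUnion, Finset.mem_sdiff, Finset.mem_insert,
        Finset.mem_singleton]
      constructor
      · rintro ⟨hg1, hgK⟩
        by_cases hf : ∀ c, g • c = c → c = a ∨ c = b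
        · exact Or.inl ⟨hgK, hg1, hf⟩
        · push Not at hf
          obtain ⟨c, hc, hca, hcb⟩ := hf
          exact Or.inr ⟨c, by tauto, hgK, hg1, hc⟩
      · rintro (⟨e1, e2, -⟩ | ⟨c, -, e1, e2, -⟩) <;> exact ⟨e2, e1⟩
    have hd2 : Disjoint F (Ω.biUnion A) := by
      rw [Finset.disjoint_left]
      intro g hgF hgU
      simp only [A, Ω, Finset.mem_biUnion, Finset.mem_sdiff, Finset.mem_univ, true_and,
        Finset.mem_insert, Finset.mem_singleton, Finset.mem_filter] at hgU
      obtain ⟨c, hc, -, -, hgc⟩ := hgU
      exact hc ((Finset.mem_filter.mp hgF).2.2.2 c hgc)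
    have hcount := congrArg Finset.card hsplit
    rw [Finset.card_union_of_disjoint hd2, Finset.card_biUnion hdisj, Finset.sum_congr rfl hA,
      Finset.sum_const, hΩ, smul_eq_mul, Finset.card_erase_of_mem (by simp [hKF, K.one_mem]),
      hKF, ← Fintype.card_subtype, ← Nat.card_eq_fintype_card, hKc] at hcount
    omega
  have hPF : (Finset.univ.filter (· ∈ (P : Subgroup G))).erase 1 = F := by
    refine Finset.eq_of_subset_of_card_le (fun g hg => ?_) ?_
    · simp only [Finset.mem_erase, Finset.mem_filter, Finset.mem_univ, true_and] at hg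
      simp only [hF, Finset.mem_filter, Finset.mem_univ, true_and]
      refine ⟨hPK hg.2, hg.1, fun c hc => ?_⟩
      have := honly g hg.2 hg.1 c hc
      rw [hFab] at this
      simpa using this
    · rw [hF8, Finset.card_erase_of_mem (by simp), ← Fintype.card_subtype,
        ← Nat.card_eq_fintype_card, hPc]
  -- the normaliser is the stabiliser of the pair
  set N := Subgroup.normalizer ((P : Subgroup G) : Set G) with hN
  have hN1 : ∀ g : G, g ∈ N → (g • a = a ∧ g • b = b) ∨ (g • a = b ∧ g • b = a) := by
    intro g hg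
    have hmap : ∀ c ∈ Fx, g • c ∈ Fx := by
      intro c hc
      simp only [hFx, Finset.mem_filter, Finset.mem_univ, true_and] at hc ⊢
      intro u hu
      have := hc (g⁻¹ * u * g) ((Subgroup.mem_normalizer_iff''.mp hg u).mp hu)
      rwa [mul_smul, mul_smul, inv_smul_eq_iff] at this
    have h1 := hmap a (by rw [hFab]; simp)
    have h2 := hmap b (by rw [hFab]; simp)
    rw [hFab, Finset.mem_insert, Finset.mem_singleton] at h1 h2
    have hne : g • a ≠ g • b := fun e => hab (MulAction.injective g e)
    rcases h1 with e1 | e1 <;> rcases h2 with e2 | e2 <;> simp_all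
  have hN2 : ∀ g : G, ((g • a = a ∧ g • b = b) ∨ (g • a = b ∧ g • b = a)) → g ∈ N := by
    intro g hg
    refine Subgroup.mem_normalizer_fintype fun u hu => ?_
    by_cases hu1 : u = 1
    · subst hu1; simp
    have huF : u ∈ F := by
      rw [← hPF]; exact Finset.mem_erase.mpr ⟨hu1, Finset.mem_filter.mpr ⟨Finset.mem_univ _, hu⟩⟩
    simp only [hF, Finset.mem_filter, Finset.mem_univ, true_and] at huF
    obtain ⟨huK, -, huf⟩ := huF
    obtain ⟨ua, ub⟩ := (hKmem u).mp huK
    suffices hmem : g * u * g⁻¹ ∈ F by
      rw [← hPF] at hmem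
      exact (Finset.mem_filter.mp (Finset.mem_erase.mp hmem).2).2
    simp only [hF, Finset.mem_filter, Finset.mem_univ, true_and, hKmem, mul_smul]
    refine ⟨?_, fun e => hu1 (conj_eq_one_iff.mp e), fun c hc => ?_⟩
    · rcases hg with ⟨e1, e2⟩ | ⟨e1, e2⟩
      · rw [inv_smul_eq_iff.mpr e1.symm, ua, inv_smul_eq_iff.mpr e2.symm, ub]; exact ⟨e1, e2⟩
      · rw [inv_smul_eq_iff.mpr e2.symm, ub, inv_smul_eq_iff.mpr e1.symm, ua]; exact ⟨e2, e1⟩
    · rw [smul_eq_iff_eq_inv_smul] at hc
      rcases huf _ hc with e | e <;> rw [inv_smul_eq_iff] at e <;> rw [e] <;>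
        rcases hg with ⟨e1, e2⟩ | ⟨e1, e2⟩ <;> simp [e1, e2]
  obtain ⟨s, hs⟩ := exists_smul_eq G z (⟨![b, a], by
    intro i j e; fin_cases i <;> fin_cases j <;> simp at e ⊢ <;> first | exact hab e | exact hab e.symm⟩ :
      Fin 2 ↪ α)
  have hsa : s • a = b := DFunLike.congr_fun hs 0
  have hsb : s • b = a := DFunLike.congr_fun hs 1
  have hKN : K ≤ N := fun g hg => hN2 g (Or.inl ((hKmem g).mp hg))
  have hidx : (K.subgroupOf N).index = 2 := by
    rw [Subgroup.index_eq_two_iff]
    refine ⟨⟨s, hN2 s (Or.inr ⟨hsa, hsb⟩)⟩, fun g => ?_⟩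
    rcases hN1 g g.2 with ⟨e1, e2⟩ | ⟨e1, e2⟩
    · refine Or.inr ⟨Subgroup.mem_subgroupOf.mpr ((hKmem _).mpr ⟨e1, e2⟩), fun hm => ?_⟩
      have h' := ((hKmem _).mp (Subgroup.mem_subgroupOf.mp hm)).1
      simp only [Subgroup.coe_mul, mul_smul] at h'
      rw [hsa, e2] at h'
      exact hab h'.symm
    · refine Or.inl ⟨Subgroup.mem_subgroupOf.mpr ((hKmem _).mpr ?_), fun hm => ?_⟩
      · simp only [Subgroup.coe_mul, mul_smul]
        rw [hsa, e2, hsb, e1]
        exact ⟨rfl, rfl⟩
      · exact hab ((((hKmem _).mp (Subgroup.mem_subgroupOf.mp hm)).1).symm.trans e1)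
  rw [← Subgroup.card_mul_index (K.subgroupOf N),
    Nat.card_congr (Subgroup.subgroupOfEquivOfLe hKN).toEquiv, hKc, hidx]

end Cfsg.Agent.Lib.RecogThree.M11.Sylow3
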