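import Cfsg.Agent.Lib.RecogThree.M11.Rep
import Cfsg.Agent.Lib.RecogThree.M11.Local5
import Cfsg.Agent.Lib.Classif.FirstPowerData

/-!
Constraints on the character values at the elements of order `11` and `5` of a simple group of
order `7920`.
-/

set_option autoImplicit false
set_option linter.style.haveILetI false
set_option linter.unusedSectionVars false

namespace Cfsg.Agent.Lib.RecogThree.M11.Values

open Cfsg.Agent.Lib.Characters Cfsg.Agent.Lib.Characters.Basic
open Cfsg.Agent.Lib.Classif.FirstPowerData (int_dvd_of_isIntegral)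
open Cfsg.Agent.Lib.Classif.PrimeExceptional (deg apply_one_eq)
open scoped ComplexConjugate
open Finset

universe u

variable {G : Type u} [Group G] [Finite G]
variable {x y : G} (hx : orderOf x = 11) (hy : orderOf y = 5) (hyx : y * x * y⁻¹ = x ^ 3)

include hx hy hyx in
/-- The fixed space of `x`, and the action of `y` on it. -/
theorem fixed_space {φ : G → ℂ} (hφ : Cfsg.IsCharacter G φ) :
    ∃ m : ℕ, (11 : ℂ) * m = ∑ i ∈ range 11, φ (x ^ i) ∧
      (∀ j : ℕ, ¬ 5 ∣ j → ‖φ (y ^ j)‖ ≤ (m : ℝ)) ∧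
      ∃ n : ℕ, (5 : ℂ) * n = m + φ y + φ (y ^ 2) + φ (y ^ 3) + φ (y ^ 4) := by
  obtain ⟨d, ρ, rfl⟩ := hφ
  have hx11 : x ^ 11 = 1 := hx ▸ pow_orderOf_eq_one x
  have hy5 : y ^ 5 = 1 := hy ▸ pow_orderOf_eq_one y
  set E := Rep.avg ρ x 11 with hE
  have hEE : E * E = E := Rep.avg_idem ρ (by norm_num) hx11
  set m := Module.finrank ℂ (LinearMap.range E)
  have hm : (11 : ℂ) * m = ∑ i ∈ range 11, ρ.character (x ^ i) := by
    rw [← Rep.trace_idem E hEE, hE, Rep.trace_avg, ← mul_assoc]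
    norm_num
  have hcomm : Commute (ρ y) E :=
    Rep.comm_avg ρ hx11 (by norm_num) hyx
  have hcommj : ∀ j : ℕ, Commute (ρ (y ^ j)) E := fun j => by
    rw [map_pow]; exact hcomm.pow_left j
  have hval : ∀ j : ℕ, ¬ 5 ∣ j → ∀ i : ℕ, ρ.character (y ^ j * x ^ i) = ρ.character (y ^ j) := by
    intro j hj i
    rw [show y ^ j * x ^ i = (x ^ i)⁻¹ * (x ^ i * y ^ j) * x ^ i by group]
    conv_lhs => arg 2; arg 2; rw [← inv_inv (x ^ i)]
    rw [isClassFunction_character ρ (x ^ i * y ^ j) (x ^ i)⁻¹]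
    exact (classFunction_apply_of_isConj (isClassFunction_character ρ)
      (Local5.isConj_coset hx hyx hj i)).symm
  refine ⟨m, hm, fun j hj => ?_, ?_⟩
  · have htr : LinearMap.trace ℂ _ (ρ (y ^ j) * E) = ρ.character (y ^ j) := by
      rw [hE, Rep.trace_mul_avg, sum_congr rfl fun i _ => hval j hj i, sum_const, card_range,
        nsmul_eq_mul, ← mul_assoc]
      norm_num
    rw [← htr]
    refine Rep.norm_trace_mul_le hEE (hcommj j).eq (n := 5) (by norm_num) ?_
    rw [← map_pow, ← pow_mul, mul_comm, pow_mul, hy5, one_pow, map_one]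
  · set Y := Rep.avg ρ y 5 with hY
    have hYY : Y * Y = Y := Rep.avg_idem ρ (by norm_num) hy5
    have hYE : Commute Y E := by
      rw [hY, Rep.avg]
      exact (Commute.sum_left _ _ _ fun j _ => hcommj j).smul_left _
    have hPP : Y * E * (Y * E) = Y * E := by
      rw [mul_assoc, ← mul_assoc E Y E, ← hYE.eq, mul_assoc Y E E, hEE, ← mul_assoc, hYY]
    refine ⟨Module.finrank ℂ (LinearMap.range (Y * E)), ?_⟩
    rw [← Rep.trace_idem (Y * E) hPP, hY, hE, Rep.trace_avg_mul_avg]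
    simp only [sum_range_succ _ 4, sum_range_succ _ 3, sum_range_succ _ 2, sum_range_succ _ 1,
      sum_range_one, pow_zero, one_mul]
    rw [pow_one, sum_congr rfl fun i _ => hval 4 (by norm_num) i,
      sum_congr rfl fun i _ => hval 3 (by norm_num) i,
      sum_congr rfl fun i _ => hval 2 (by norm_num) i,
      sum_congr rfl fun i _ => (by simpa using hval 1 (by norm_num) i :
        ρ.character (y * x ^ i) = ρ.character y), ← hm]
    simp only [sum_const, card_range, nsmul_eq_mul]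
    push_cast
    field_simp

include hx hyx in
theorem sum_pow_x {φ : G → ℂ} (hφ : Cfsg.IsCharacter G φ) :
    ∑ i ∈ range 11, φ (x ^ i) = φ 1 + 5 * (φ x + conj (φ x)) := by
  have hcl := isClassFunction_of_isCharacter hφ
  have hstep : ∀ i : ℕ, φ (x ^ (3 * i)) = φ (x ^ i) := fun i => by
    rw [← Local5.conj_pow_x hyx i]
    exact hcl _ _
  have hred : ∀ i : ℕ, φ (x ^ i) = φ (x ^ (i % 11)) := fun i => by
    rw [← hx, pow_mod_orderOf]
  have h3 : φ (x ^ 3) = φ x := by simpa using hstep 1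
  have h9 : φ (x ^ 9) = φ x := by simpa [h3] using hstep 3
  have h5 : φ (x ^ 5) = φ x := by
    have := hstep 9; rw [hred (3 * 9)] at this; simpa [h9] using this
  have h4 : φ (x ^ 4) = φ x := by
    have := hstep 5; rw [hred (3 * 5)] at this; simpa [h5] using this
  have hinv : ∀ i, i ≤ 11 → φ (x ^ (11 - i)) = conj (φ (x ^ i)) := fun i hi => by
    rw [← apply_inv hφ]
    congr 1
    apply eq_inv_of_mul_eq_one_left
    rw [← pow_add, Nat.sub_add_cancel hi, ← hx, pow_orderOf_eq_one]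
  simp only [sum_range_succ, sum_range_zero, zero_add, pow_zero, pow_one]
  rw [show (10 : ℕ) = 11 - 1 from rfl, hinv 1 (by norm_num), pow_one,
    show (8 : ℕ) = 11 - 3 from rfl, hinv 3 (by norm_num), h3,
    show (2 : ℕ) = 11 - 9 from rfl, hinv 9 (by norm_num), h9,
    show (6 : ℕ) = 11 - 5 from rfl, hinv 5 (by norm_num), h5,
    show (7 : ℕ) = 11 - 4 from rfl, hinv 4 (by norm_num), h4]
  ring

/-- A rational algebraic integer. -/
theorem exists_int {z : ℂ} (hz : IsIntegral ℤ z) {a : ℤ} {k : ℕ} (hk : k ≠ 0)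
    (h : (k : ℂ) * z = a) : ∃ w : ℤ, z = w ∧ (k : ℤ) * w = a := by
  have hk' : (k : ℂ) ≠ 0 := Nat.cast_ne_zero.mpr hk
  have hz' : z = (a : ℂ) / (k : ℂ) := by rw [← h, mul_div_cancel_left₀ _ hk']
  obtain ⟨w, hw⟩ := int_dvd_of_isIntegral hk (hz' ▸ hz)
  refine ⟨w, mul_left_cancel₀ hk' ?_, hw.symm⟩
  rw [h, hw]
  push_cast
  ring

include hx hy hyx in
/-- The values at `x`: the trace of the fixed space and the norm. -/
theorem at_x (χ : Cfsg.IrrCharacter G) :
    ∃ (m : ℕ) (s : ℤ) (S : ℕ), (χ : G → ℂ) x + conj ((χ : G → ℂ) x) = s ∧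
      Complex.normSq ((χ : G → ℂ) x) = S ∧ 11 * (m : ℤ) = deg χ + 5 * s ∧
      (11 : ℤ) ∣ deg χ ^ 2 + 10 * S ∧
      (∀ j : ℕ, ¬ 5 ∣ j → ‖(χ : G → ℂ) (y ^ j)‖ ≤ (m : ℝ)) ∧
      ∃ n : ℕ, (5 : ℂ) * n = m + (χ : G → ℂ) y + (χ : G → ℂ) (y ^ 2) + (χ : G → ℂ) (y ^ 3) +
        (χ : G → ℂ) (y ^ 4) := by
  have hc := isCharacter_irr χ
  have hAi : IsIntegral ℤ ((χ : G → ℂ) x) := isIntegral_apply hc x
  have hAi' : IsIntegral ℤ (conj ((χ : G → ℂ) x)) := Degree.isIntegral_conj hAi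
  obtain ⟨m, hm, hnorm, hn⟩ := fixed_space hx hy hyx hc
  obtain ⟨k, hk, -, -⟩ := fixed_space hx hy hyx (isCharacter_mul hc (isCharacter_conj hc))
  rw [sum_pow_x hx hyx hc, apply_one_eq] at hm
  rw [sum_pow_x hx hyx (isCharacter_mul hc (isCharacter_conj hc))] at hk
  simp only [Pi.mul_apply, map_mul, Complex.conj_conj] at hk
  rw [conj_apply_one hc, apply_one_eq] at hk
  obtain ⟨s, hs, hs'⟩ := exists_int (hAi.add hAi') (k := 5) (a := 11 * (m : ℤ) - deg χ)
    (by norm_num) (by push_cast; linear_combination -hm)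
  obtain ⟨S, hS, hS'⟩ := exists_int (hAi.mul hAi') (k := 10) (a := 11 * (k : ℤ) - deg χ ^ 2)
    (by norm_num) (by push_cast; linear_combination -hk)
  rw [Complex.mul_conj] at hS
  have hS2 : Complex.normSq ((χ : G → ℂ) x) = (S : ℝ) := by exact_mod_cast hS
  have hS0 : 0 ≤ S := by
    exact_mod_cast (hS2 ▸ Complex.normSq_nonneg _ : (0 : ℝ) ≤ (S : ℝ))
  obtain ⟨S', rfl⟩ := Int.eq_ofNat_of_zero_le hS0
  refine ⟨m, s, S', hs, by exact_mod_cast hS2, by omega, ⟨k, ?_⟩, hnorm, hn⟩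
  push_cast at hS' ⊢
  linarith

end Cfsg.Agent.Lib.RecogThree.M11.Values
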